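import Mathlib
import Cfsg.Agent.Lib.Cores.Frattini

/-!
# A coprime automorphism of prime order fixing all proper invariant subgroups pointwise
-/

set_option autoImplicit false

namespace Cfsg.Agent.Lib.MaxSchmidt

open scoped commutatorElement
open Subgroup

variable {P : Type*} [Group P]

/-- The fixed points. -/
def fixedSub (σ : MulAut P) : Subgroup P :=
  MonoidHom.eqLocus σ.toMonoidHom (MonoidHom.id P)

theorem mem_fixedSub {σ : MulAut P} {x : P} : x ∈ fixedSub σ ↔ σ x = x := Iff.rfl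

/-- An automorphism of order `q` fixing every proper invariant subgroup pointwise. -/
structure SAct (q : ℕ) (σ : MulAut P) : Prop where
  pow : σ ^ q = 1
  ne : σ ≠ 1
  fix : ∀ R : Subgroup P, R ≠ ⊤ → (∀ r ∈ R, σ r ∈ R) → ∀ r ∈ R, σ r = r

theorem iter_mem {σ : MulAut P} {R : Subgroup P} (h : ∀ r ∈ R, σ r ∈ R) (n : ℕ) :
    ∀ r ∈ R, (σ ^ n) r ∈ R := by
  induction n with
  | zero => intro r hr; simpa using hr
  | succ n ih => intro r hr; rw [pow_succ', MulAut.mul_apply]; exact h _ (ih r hr)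

theorem iter_fix {σ : MulAut P} {r : P} (h : σ r = r) (n : ℕ) : (σ ^ n) r = r := by
  induction n with
  | zero => simp
  | succ n ih => rw [pow_succ', MulAut.mul_apply, ih, h]

theorem SAct.pow_pow {q : ℕ} {σ : MulAut P} (h : SAct q σ) (i j : ℕ) (hij : (σ ^ j) ^ i = σ) :
    SAct q (σ ^ j) where
  pow := by rw [← pow_mul, mul_comm, pow_mul, h.pow, one_pow]
  ne := fun e => h.ne (by rw [← hij, e, one_pow])
  fix R hR hinv r hr := iter_fix (h.fix R hR (fun x hx => by
    have := iter_mem hinv i x hx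
    rwa [hij] at this) r hr) j

/-- An element whose displacement is fixed is fixed. -/
theorem fpf {p q : ℕ} [Fact p.Prime] [Fact q.Prime] (hP : IsPGroup p P) (hpq : p ≠ q) {σ : MulAut P}
    (hσ : σ ^ q = 1) {v : P} (hc : σ (v⁻¹ * σ v) = v⁻¹ * σ v) : σ v = v := by
  set c := v⁻¹ * σ v with hcdef
  have hn : ∀ n : ℕ, (σ ^ n) v = v * c ^ n := by
    intro n
    induction n with
    | zero => simp
    | succ n ih =>
      rw [pow_succ', MulAut.mul_apply, ih, map_mul, map_pow, hc, pow_succ', ← mul_assoc, hcdef]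
      group
  have h := hn q
  rw [hσ, MulAut.one_apply, left_eq_mul] at h
  have h1 : c = 1 := by
    obtain ⟨k, hk⟩ := hP c
    exact orderOf_eq_one_iff.mp (Nat.eq_one_of_dvd_coprimes
      ((Nat.coprime_primes Fact.out Fact.out).mpr hpq |>.pow_left k)
      (orderOf_dvd_of_pow_eq_one hk) (orderOf_dvd_of_pow_eq_one h))
  calc σ v = v * c := by rw [hcdef]; group
    _ = v := by rw [h1, mul_one]

variable [Finite P] {p q : ℕ} [Fact p.Prime] [Fact q.Prime] {σ : MulAut P}

theorem SAct.gen (h : SAct q σ) (hP : IsPGroup p P) (hpq : p ≠ q) :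
    closure (Set.range fun v : P => v⁻¹ * σ v) = ⊤ := by
  by_contra hne
  have hinv : ∀ r ∈ closure (Set.range fun v : P => v⁻¹ * σ v),
      σ r ∈ closure (Set.range fun v : P => v⁻¹ * σ v) := by
    intro r hr
    have : σ r ∈ (closure (Set.range fun v : P => v⁻¹ * σ v)).map σ.toMonoidHom := ⟨r, hr, rfl⟩
    rw [MonoidHom.map_closure] at this
    refine closure_mono ?_ this
    rintro _ ⟨_, ⟨v, rfl⟩, rfl⟩
    exact ⟨σ v, by simp⟩
  exact h.ne (MulEquiv.ext fun v => fpf hP hpq h.pow (h.fix _ hne hinv _ (subset_closure ⟨v, rfl⟩)))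

theorem SAct.frattini_fixed (h : SAct q σ) (hP : IsPGroup p P) :
    frattini P ≤ fixedSub σ := by
  haveI := hP.isNilpotent
  haveI : Nontrivial P := by
    by_contra hn
    rw [not_nontrivial_iff_subsingleton] at hn
    exact h.ne (MulEquiv.ext fun x => Subsingleton.elim _ _)
  have hΦ : frattini P ≠ ⊤ := fun e => by
    obtain ⟨M, hM, -⟩ := (eq_top_or_exists_le_coatom (⊥ : Subgroup P)).resolve_left bot_ne_top
    exact hM.1 (top_le_iff.mp (e ▸ frattini_le_coatom hM))
  intro x hx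
  refine h.fix _ hΦ (fun r hr => ?_) x hx
  have := (inferInstance : (frattini P).Characteristic).fixed σ
  rw [← this] at hr; exact hr

theorem SAct.comm_fixed (h : SAct q σ) (hP : IsPGroup p P) (a b : P) : ⁅a, b⁆ ∈ fixedSub σ := by
  haveI := hP.isNilpotent
  exact h.frattini_fixed hP
    (Cores.commutator_le_frattini (commutator_mem_commutator (mem_top a) (mem_top b)))

theorem SAct.pow_fixed (h : SAct q σ) (hP : IsPGroup p P) (a : P) : a ^ p ∈ fixedSub σ :=
  h.frattini_fixed hP (Cores.pow_mem_frattini hP a)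

theorem SAct.fixed_le_center (h : SAct q σ) (hP : IsPGroup p P) (hpq : p ≠ q) :
    fixedSub σ ≤ center P := by
  intro v hv
  rw [mem_fixedSub] at hv
  have hle : closure (Set.range fun v : P => v⁻¹ * σ v) ≤ centralizer ({v} : Set P) := by
    refine (closure_le _).mpr ?_
    rintro _ ⟨w, rfl⟩
    rw [SetLike.mem_coe, mem_centralizer_singleton_iff]
    have h1 := mem_fixedSub.mp (h.comm_fixed hP v w)
    rw [map_commutatorElement, hv, commutatorElement_def, commutatorElement_def] at h1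
    have h2 : σ w * v⁻¹ * (σ w)⁻¹ = w * v⁻¹ * w⁻¹ := by
      apply mul_left_cancel (a := v)
      calc v * (σ w * v⁻¹ * (σ w)⁻¹) = v * σ w * v⁻¹ * (σ w)⁻¹ := by group
        _ = v * w * v⁻¹ * w⁻¹ := h1
        _ = v * (w * v⁻¹ * w⁻¹) := by group
    have h3 : v⁻¹ * ((σ w)⁻¹ * w) = (σ w)⁻¹ * w * v⁻¹ := by
      calc v⁻¹ * ((σ w)⁻¹ * w) = (σ w)⁻¹ * (σ w * v⁻¹ * (σ w)⁻¹) * w := by group
        _ = (σ w)⁻¹ * (w * v⁻¹ * w⁻¹) * w := by rw [h2]
        _ = (σ w)⁻¹ * w * v⁻¹ := by group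
    have h4 := congrArg (·⁻¹) h3
    simp only [mul_inv_rev, inv_inv] at h4
    exact h4
  rw [h.gen hP hpq] at hle
  exact mem_center_iff.mpr fun w => mem_centralizer_singleton_iff.mp (hle (mem_top w))

end Cfsg.Agent.Lib.MaxSchmidt
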