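import Mathlib

/-!
# The field generated by a primitive root of prime order over the prime field
-/

set_option autoImplicit false

namespace Cfsg.Agent.Lib.MaxSchmidt

open Polynomial

/-- A field of order `p ^ a` generated by an element `ζ` of order `q`. -/
structure Root (p q a : ℕ) [Fact p.Prime] (F : Type*) [Field F] [Algebra (ZMod p) F] where
  ζ : F
  pow : ζ ^ q = 1
  ne : ζ ≠ 1
  gen : Algebra.adjoin (ZMod p) ({ζ} : Set F) = ⊤
  card : Nat.card F = p ^ a

theorem orderOf_cast_pos {p q : ℕ} [Fact p.Prime] [Fact q.Prime] (hpq : p ≠ q) :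
    0 < orderOf (p : ZMod q) := by
  have h : (p : ZMod q) ≠ 0 := by
    rw [Ne, ZMod.natCast_eq_zero_iff]
    exact fun hd => hpq ((Nat.prime_dvd_prime_iff_eq Fact.out Fact.out).mp hd).symm
  exact orderOf_pos_iff.mpr (isOfFinOrder_iff_pow_eq_one.mpr ⟨q - 1, by have := (Fact.out : q.Prime).two_le; omega,
    ZMod.pow_card_sub_one_eq_one h⟩)

theorem exists_root {p q : ℕ} [Fact p.Prime] [Fact q.Prime] (hpq : p ≠ q) :
    Nonempty (Root p q (orderOf (p : ZMod q)) (GaloisField p (orderOf (p : ZMod q)))) := by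
  set a := orderOf (p : ZMod q) with ha
  have ha0 : 0 < a := orderOf_cast_pos hpq
  set F := GaloisField p a
  have hF : Nat.card F = p ^ a := GaloisField.card p a ha0.ne'
  have hdvd : ∀ d : ℕ, q ∣ p ^ d - 1 ↔ a ∣ d := by
    intro d
    rw [ha, orderOf_dvd_iff_pow_eq_one, ← Nat.modEq_iff_dvd' (Nat.one_le_pow _ _ (Fact.out : p.Prime).pos),
      ← ZMod.natCast_eq_natCast_iff, Nat.cast_one, Nat.cast_pow, eq_comm]
  haveI : Finite F := Nat.finite_of_card_ne_zero (by rw [hF]; exact pow_ne_zero _ (Fact.out : p.Prime).ne_zero)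
  haveI := Fintype.ofFinite F
  obtain ⟨u, hu⟩ := exists_prime_orderOf_dvd_card' (G := Fˣ) q (by
    rw [Nat.card_units, hF]; exact (hdvd a).mpr dvd_rfl)
  have hpow : (u : F) ^ q = 1 := by rw [← Units.val_pow_eq_pow_val, ← hu, pow_orderOf_eq_one, Units.val_one]
  refine ⟨⟨(u : F), hpow, fun e => ?_, ?_, hF⟩⟩
  · rw [Units.val_eq_one] at e
    rw [e, orderOf_one] at hu
    exact (Fact.out : q.Prime).ne_one hu.symm
  · set K := IntermediateField.adjoin (ZMod p) ({(u : F)} : Set F)
    haveI := Fintype.ofFinite K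
    have hK : Fintype.card K = p ^ Module.finrank (ZMod p) K := by
      rw [Module.card_eq_pow_finrank (K := ZMod p) (V := K), ZMod.card]
    have hq : q ∣ p ^ Module.finrank (ZMod p) K - 1 := by
      have h1 := FiniteField.pow_card_sub_one_eq_one (K := K)
        ⟨(u : F), IntermediateField.subset_adjoin _ _ rfl⟩ (fun e => u.ne_zero (congrArg Subtype.val e))
      have h2 : (u : F) ^ (Fintype.card K - 1) = 1 := by simpa using congrArg Subtype.val h1
      rw [← hK, ← hu]
      exact orderOf_dvd_of_pow_eq_one (Units.ext (by rw [Units.val_pow_eq_pow_val, h2, Units.val_one]))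
    have hfr : Module.finrank (ZMod p) F = a := by
      have := Module.natCard_eq_pow_finrank (K := ZMod p) (V := F)
      rw [hF, Nat.card_zmod] at this
      exact (Nat.pow_right_injective (Fact.out : p.Prime).two_le this).symm
    have hle : Module.finrank (ZMod p) F ≤ Module.finrank (ZMod p) K := by
      rw [hfr]
      exact Nat.le_of_dvd Module.finrank_pos ((hdvd _).mp hq)
    have hKtop : K = ⊤ := IntermediateField.eq_of_le_of_finrank_le le_top (by
      rw [IntermediateField.finrank_top']; exact hle)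
    rw [← IntermediateField.adjoin_simple_toSubalgebra_of_isAlgebraic (Algebra.IsAlgebraic.isAlgebraic _),
      show IntermediateField.adjoin (ZMod p) ({(u : F)} : Set F) = ⊤ from hKtop,
      IntermediateField.top_toSubalgebra]

variable {p q a : ℕ} [Fact p.Prime] [Fact q.Prime] {F : Type*} [Field F] [Algebra (ZMod p) F]
  (R : Root p q a F)

/-- An additive subgroup closed under multiplication by `ζ` with a nonzero element is everything. -/
theorem Root.addSubgroup_eq_top (S : AddSubgroup F) (h : ∀ s ∈ S, R.ζ * s ∈ S) {s : F} (hs : s ∈ S)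
    (hs0 : s ≠ 0) : S = ⊤ := by
  let T : Subalgebra (ZMod p) F :=
    { carrier := {z | ∀ x ∈ S, z * x ∈ S}
      mul_mem' := fun {z w} hz hw x hx => by rw [mul_assoc]; exact hz _ (hw x hx)
      add_mem' := fun {z w} hz hw x hx => by rw [add_mul]; exact S.add_mem (hz x hx) (hw x hx)
      algebraMap_mem' := fun n x hx => by
        rw [← ZMod.natCast_zmod_val n, map_natCast, ← nsmul_eq_mul]
        exact S.nsmul_mem hx _ }
  have hT : T = ⊤ := eq_top_iff.mpr (le_of_eq_of_le R.gen.symm (Algebra.adjoin_le (by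
    rintro _ rfl; exact fun x hx => h x hx)))
  rw [eq_top_iff]
  intro z _
  have := (show z * s⁻¹ ∈ T from hT ▸ Algebra.mem_top) s hs
  rwa [mul_assoc, inv_mul_cancel₀ hs0, mul_one] at this

omit [Fact q.Prime] in
theorem Root.exists_aeval (z : F) : ∃ g : (ZMod p)[X], aeval R.ζ g = z := by
  have : z ∈ Algebra.adjoin (ZMod p) ({R.ζ} : Set F) := by rw [R.gen]; exact Algebra.mem_top
  rw [Algebra.adjoin_singleton_eq_range_aeval] at this
  exact this

theorem Root.ζ_ne_zero : R.ζ ≠ 0 := fun e => by
  have := R.pow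
  rw [e, zero_pow (Fact.out : q.Prime).ne_zero] at this
  exact zero_ne_one this

theorem Root.inv_eq : R.ζ⁻¹ = R.ζ ^ (q - 1) := by
  refine inv_eq_of_mul_eq_one_right ?_
  rw [← pow_succ', show q - 1 + 1 = q by have := (Fact.out : q.Prime).two_le; omega, R.pow]

/-- The inverse root generates as well. -/
def Root.inv : Root p q a F where
  ζ := R.ζ⁻¹
  pow := by rw [inv_pow, R.pow, inv_one]
  ne := fun e => R.ne (inv_eq_one.mp e)
  gen := by
    have h : R.ζ = R.ζ⁻¹ ^ (q - 1) := by rw [inv_pow, ← R.inv_eq, inv_inv]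
    refine eq_top_iff.mpr (le_of_eq_of_le R.gen.symm (Algebra.adjoin_le ?_))
    rintro _ rfl
    rw [SetLike.mem_coe]
    have h2 := pow_mem (Algebra.subset_adjoin (R := ZMod p) (Set.mem_singleton R.ζ⁻¹)) (q - 1)
    rwa [← h] at h2
  card := R.card

end Cfsg.Agent.Lib.MaxSchmidt
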