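import Cfsg.Agent.Lib.MaxSchmidt.Action
import Cfsg.Agent.Lib.MaxSchmidt.Field

/-!
# The bound on the order of a group with such an action
-/

set_option autoImplicit false
set_option maxHeartbeats 400000

namespace Cfsg.Agent.Lib.MaxSchmidt

open scoped commutatorElement
open Subgroup Polynomial

variable {p q a : ℕ} [Fact p.Prime] [Fact q.Prime] {F : Type*} [Field F] [Algebra (ZMod p) F]
  (R : Root p q a F)

include R in
theorem Root.finite : Finite F :=
  Nat.finite_of_card_ne_zero (by rw [R.card]; exact pow_ne_zero _ (Fact.out : p.Prime).ne_zero)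

include R in
theorem Root.finrank_eq : Module.finrank (ZMod p) F = a := by
  haveI := R.finite
  have := Module.natCard_eq_pow_finrank (K := ZMod p) (V := F)
  rw [R.card, Nat.card_zmod] at this
  exact (Nat.pow_right_injective (Fact.out : p.Prime).two_le this).symm

theorem Root.orderOf_ζ : orderOf R.ζ = q := orderOf_eq_prime R.pow R.ne

theorem Root.pow_eq_inv_iff (n : ℕ) : R.ζ ^ n = R.ζ⁻¹ ↔ ((n : ℕ) : ZMod q) = -1 := by
  rw [eq_comm, inv_eq_iff_eq_inv, ← mul_eq_one_iff_eq_inv₀ (pow_ne_zero _ R.ζ_ne_zero),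
    ← pow_succ', ← orderOf_dvd_iff_pow_eq_one, R.orderOf_ζ, ← ZMod.natCast_eq_zero_iff,
    Nat.cast_add, Nat.cast_one, eq_neg_iff_add_eq_zero]

/-- The functionals which are odd for the inversion of `ζ`. -/
def oddFun : AddSubgroup (F →+ ZMod p) where
  carrier := {β | β 1 = 0 ∧ ∀ k : ℕ, β (R.ζ ^ k) + β (R.ζ⁻¹ ^ k) = 0}
  zero_mem' := ⟨rfl, fun _ => add_zero _⟩
  add_mem' := fun {β γ} hβ hγ => ⟨by rw [AddMonoidHom.add_apply, hβ.1, hγ.1, add_zero], fun k => by
    rw [AddMonoidHom.add_apply, AddMonoidHom.add_apply, add_add_add_comm, hβ.2, hγ.2, add_zero]⟩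
  neg_mem' := fun {β} hβ => ⟨by rw [AddMonoidHom.neg_apply, hβ.1, neg_zero], fun k => by
    rw [AddMonoidHom.neg_apply, AddMonoidHom.neg_apply, ← neg_add, hβ.2, neg_zero]⟩

theorem Root.odd_aeval {β : F →+ ZMod p} (hβ : β ∈ oddFun R) (g : (ZMod p)[X]) :
    β (aeval R.ζ g) + β (aeval R.ζ⁻¹ g) = 0 := by
  induction g using Polynomial.induction_on' with
  | add g h hg hh => rw [map_add, map_add, map_add, map_add, add_add_add_comm, hg, hh, add_zero]
  | monomial n c =>
    rw [aeval_monomial, aeval_monomial, ← ZMod.natCast_zmod_val c, map_natCast, ← nsmul_eq_mul,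
      ← nsmul_eq_mul, map_nsmul, map_nsmul, ← nsmul_add, hβ.2, nsmul_zero]

theorem zmod_two_eq_one {x : ZMod 2} (h : x ≠ 0) : x = 1 :=
  (by decide : ∀ y : ZMod 2, y ≠ 0 → y = 1) x h

theorem card_addMonoidHom_zmod (V : Type*) [AddCommGroup V] [Module (ZMod p) V] [Finite V] :
    Nat.card (V →+ ZMod p) = Nat.card V := by
  have e : (V →+ ZMod p) ≃ Module.Dual (ZMod p) V :=
    { toFun := fun f => f.toZModLinearMap p
      invFun := fun f => f.toAddMonoidHom
      left_inv := fun f => rfl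
      right_inv := fun f => rfl }
  rw [Nat.card_congr e, Module.natCard_eq_pow_finrank (K := ZMod p) (V := Module.Dual (ZMod p) V),
    Subspace.dual_finrank_eq, ← Module.natCard_eq_pow_finrank]

theorem Root.card_oddFun (ha : a = orderOf (p : ZMod q)) (hpq : p ≠ q) :
    Nat.card (oddFun R) ≤ p ^ (if a % 2 = 1 then 0 else a / 2) := by
  classical
  haveI := R.finite
  haveI := Fintype.ofFinite F
  have ha0 : 0 < a := ha ▸ orderOf_cast_pos hpq
  split_ifs with hodd
  · -- only the zero functional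
    suffices h : ∀ β ∈ oddFun R, β = 0 by
      haveI : Subsingleton (oddFun R) := ⟨fun x y => Subtype.ext ((h _ x.2).trans (h _ y.2).symm)⟩
      rw [pow_zero]
      exact Finite.card_le_one_iff_subsingleton.mpr ‹_›
    intro β hβ
    by_cases ha1 : a = 1
    · have hker : β.ker = ⊤ := by
        refine AddSubgroup.eq_top_of_card_eq _ (le_antisymm (Nat.card_le_card_of_injective _ Subtype.val_injective) ?_)
        have h1 : AddSubgroup.zmultiples (1 : F) ≤ β.ker :=
          AddSubgroup.zmultiples_le.mpr (AddMonoidHom.mem_ker.mpr hβ.1)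
        refine le_trans ?_ (AddSubgroup.card_le_of_le h1)
        haveI : CharP F p := charP_of_injective_algebraMap' (ZMod p) p
        rw [Nat.card_zmultiples, R.card, ha1, pow_one,
          addOrderOf_eq_prime (by rw [nsmul_eq_mul, CharP.cast_eq_zero, zero_mul]) one_ne_zero]
      exact AddMonoidHom.ker_eq_top_iff.mp hker
    -- the inverse is not a conjugate
    have hg : aeval R.ζ⁻¹ (minpoly (ZMod p) R.ζ) ≠ 0 := by
      intro hroot
      let pb := PowerBasis.ofAdjoinEqTop (Algebra.IsIntegral.isIntegral R.ζ) R.gen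
      let φ := pb.lift R.ζ⁻¹ hroot
      obtain ⟨n, hn⟩ := (FiniteField.bijective_frobeniusAlgHom_pow (ZMod p) F).2 φ
      have h1 : φ R.ζ = R.ζ⁻¹ := pb.lift_gen R.ζ⁻¹ hroot
      rw [← hn] at h1
      dsimp only at h1
      rw [AlgHom.coe_pow, FiniteField.coe_frobeniusAlgHom, pow_iterate, ZMod.card, R.pow_eq_inv_iff,
        Nat.cast_pow] at h1
      have h2 : (p : ZMod q) ^ (2 * n.1) = 1 := by rw [mul_comm, pow_mul, h1]; ring
      have h3 : a ∣ 2 * n.1 := ha ▸ orderOf_dvd_of_pow_eq_one h2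
      have h4 : a ∣ n.1 := (Nat.Coprime.dvd_of_dvd_mul_left (Nat.coprime_comm.mp
        (Nat.prime_two.coprime_iff_not_dvd.mpr (by omega))) h3)
      rw [orderOf_dvd_iff_pow_eq_one.mp (ha ▸ h4)] at h1
      have hq2 : q = 2 := by
        have : ((2 : ℕ) : ZMod q) = 0 := by push_cast; linear_combination h1
        rw [ZMod.natCast_eq_zero_iff] at this
        exact (Nat.prime_dvd_prime_iff_eq Fact.out Nat.prime_two).mp this
      subst hq2
      apply ha1
      rw [ha, orderOf_eq_one_iff]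
      exact (zmod_two_eq_one (by
        rw [Ne, ZMod.natCast_eq_zero_iff]
        exact fun hd => hpq ((Nat.prime_dvd_prime_iff_eq Nat.prime_two Fact.out).mp hd).symm))
    ext z
    obtain ⟨k, hk⟩ := R.inv.exists_aeval (z / aeval R.ζ⁻¹ (minpoly (ZMod p) R.ζ))
    have h := R.odd_aeval hβ (minpoly (ZMod p) R.ζ * k)
    rw [map_mul (aeval R.ζ), map_mul (aeval R.ζ⁻¹), minpoly.aeval, zero_mul, map_zero, zero_add,
      show aeval R.ζ⁻¹ k = _ from hk, mul_div_cancel₀ _ hg] at h
    simpa using h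
  · -- functionals killing the fixed field
    set b := a / 2 with hbdef
    have hab : a = b + b := by omega
    let τ : F →ₐ[ZMod p] F := (FiniteField.frobeniusAlgHom (ZMod p) F) ^ b
    have hτ : ∀ z, τ z = z ^ p ^ b := fun z => by
      show ((FiniteField.frobeniusAlgHom (ZMod p) F) ^ b) z = _
      rw [AlgHom.coe_pow, FiniteField.coe_frobeniusAlgHom, pow_iterate, ZMod.card]
    have hτζ : τ R.ζ = R.ζ⁻¹ := by
      rw [hτ, R.pow_eq_inv_iff, Nat.cast_pow]
      have h1 : ((p : ZMod q) ^ b) * (p : ZMod q) ^ b = 1 := by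
        rw [← pow_add, ← hab, ha, pow_orderOf_eq_one]
      refine ((mul_self_eq_one_iff.mp h1).resolve_left fun h2 => ?_)
      have := Nat.le_of_dvd (by omega) (orderOf_dvd_of_pow_eq_one h2)
      omega
    let Tr : F →+ F := AddMonoidHom.id F + τ.toRingHom.toAddMonoidHom
    have hTr : ∀ β ∈ oddFun R, ∀ z, β (Tr z) = 0 := by
      intro β hβ z
      obtain ⟨g, rfl⟩ := R.exists_aeval z
      show β (aeval R.ζ g + τ (aeval R.ζ g)) = 0
      rw [← aeval_algHom_apply, hτζ, map_add]
      exact R.odd_aeval hβ g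
    have hkerTr : Nat.card Tr.ker ≤ p ^ b := by
      have hne : (X ^ p ^ b + X : F[X]) ≠ 0 := fun h => by
        have := congrArg (coeff · 1) h
        simp only [coeff_add, coeff_X_pow, coeff_X_one, coeff_zero] at this
        rw [if_neg (Nat.one_lt_pow (by omega) (Fact.out : p.Prime).one_lt).ne] at this
        simp at this
      calc Nat.card Tr.ker ≤ Nat.card (X ^ p ^ b + X : F[X]).roots.toFinset := by
            refine Nat.card_le_card_of_injective (fun z => ⟨z.1, ?_⟩) (fun x y h => Subtype.ext (congrArg (fun w : _ => w.1) h))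
            rw [Multiset.mem_toFinset, mem_roots hne, IsRoot, eval_add, eval_pow, eval_X, add_comm, ← hτ]
            exact AddMonoidHom.mem_ker.mp z.2
        _ ≤ p ^ b := by
            rw [Nat.card_eq_fintype_card, Fintype.card_coe]
            refine (Multiset.toFinset_card_le _).trans ((card_roots' _).trans ?_)
            refine (natDegree_add_le _ _).trans (max_le (natDegree_X_pow _).le ?_)
            rw [natDegree_X]
            exact Nat.one_le_pow _ _ (Fact.out : p.Prime).pos
    letI : Module (ZMod p) (F ⧸ Tr.range) := AddCommGroup.zmodModule fun x => by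
      obtain ⟨z, rfl⟩ := QuotientAddGroup.mk_surjective x
      haveI : CharP F p := charP_of_injective_algebraMap' (ZMod p) p
      rw [← QuotientAddGroup.mk_nsmul, nsmul_eq_mul, CharP.cast_eq_zero, zero_mul]
      rfl
    have hquot : Nat.card (F ⧸ Tr.range) ≤ p ^ b := by
      rw [← AddSubgroup.index_eq_card]
      have h1 := Tr.range.card_mul_index
      have h2 := Tr.ker.card_mul_index
      rw [AddSubgroup.index_ker, ← h1] at h2
      exact (Nat.eq_of_mul_eq_mul_left Nat.card_pos (by rw [mul_comm (Nat.card Tr.range), h2])).ge.trans hkerTr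
    haveI : Finite ((F ⧸ Tr.range) →+ ZMod p) := Finite.of_injective _ DFunLike.coe_injective
    calc Nat.card (oddFun R) ≤ Nat.card ((F ⧸ Tr.range) →+ ZMod p) := by
          refine Nat.card_le_card_of_injective (fun β => QuotientAddGroup.lift Tr.range β.1 ?_) ?_
          · rintro _ ⟨z, rfl⟩
            exact hTr _ β.2 z
          · intro β γ h
            exact Subtype.ext (AddMonoidHom.ext fun z => DFunLike.congr_fun h (z : F ⧸ Tr.range))
      _ ≤ p ^ b := by rw [card_addMonoidHom_zmod]; exact hquot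

section

variable {W : Type*} [Group W] [Finite W]

omit [Finite W] in
theorem pow_mul_central {m : ℕ} (hc : ∀ u v : W, ⁅u, v⁆ ∈ center W) (u v : W) :
    ∃ k : ℕ, (u * v) ^ m = u ^ m * v ^ m * ⁅v, u⁆ ^ k := by
  induction m with
  | zero => exact ⟨0, by simp⟩
  | succ m ih =>
    obtain ⟨k, hk⟩ := ih
    obtain ⟨i, hi⟩ : ∃ i : ℕ, v ^ m * u = u * v ^ m * ⁅v, u⁆ ^ i := by
      clear hk k
      induction m with
      | zero => exact ⟨0, by simp⟩
      | succ m ihm =>
        obtain ⟨i, hi⟩ := ihm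
        refine ⟨i + 1, ?_⟩
        have hcv := mem_center_iff.mp (hc v u)
        have hvu : v * u = u * v * ⁅v, u⁆ := by
          rw [hcv (u * v), commutatorElement_def]; group
        generalize ⁅v, u⁆ = c at hi hcv hvu ⊢
        calc v ^ (m + 1) * u = v * (v ^ m * u) := by rw [pow_succ', mul_assoc]
          _ = (v * u) * v ^ m * c ^ i := by rw [hi]; group
          _ = u * v * (c * v ^ m) * c ^ i := by rw [hvu]; group
          _ = u * v * (v ^ m * c) * c ^ i := by rw [hcv (v ^ m)]
          _ = u * v ^ (m + 1) * c ^ (i + 1) := by rw [pow_succ' v, pow_succ' c]; group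
    refine ⟨k + i, ?_⟩
    have hck := mem_center_iff.mp (pow_mem (hc v u) k)
    have hci := mem_center_iff.mp (pow_mem (hc v u) i)
    calc (u * v) ^ (m + 1) = u ^ m * v ^ m * ⁅v, u⁆ ^ k * (u * v) := by rw [pow_succ, hk]
      _ = u ^ m * (v ^ m * u) * v * ⁅v, u⁆ ^ k := by
          rw [mul_assoc (u ^ m * v ^ m), ← hck (u * v)]; group
      _ = u ^ (m + 1) * v ^ (m + 1) * ⁅v, u⁆ ^ (k + i) := by
          rw [hi, pow_succ, pow_succ, add_comm k i, pow_add, show u ^ m * (u * v ^ m * ⁅v, u⁆ ^ i) * v =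
            u ^ m * u * v ^ m * (⁅v, u⁆ ^ i * v) by group, ← hci v]
          group

theorem eq_one_of_invariant {M : Type*} [CommGroup M] {σ : MulAut W}
    (hgen : closure (Set.range fun v : W => v⁻¹ * σ v) = ⊤) (f : W →* M) (hf : ∀ w, f (σ w) = f w) (w : W) :
    f w = 1 := by
  have hle : closure (Set.range fun v : W => v⁻¹ * σ v) ≤ f.ker := (closure_le _).mpr (by
    rintro _ ⟨v, rfl⟩
    rw [SetLike.mem_coe, MonoidHom.mem_ker, map_mul, map_inv, hf, inv_mul_cancel])
  rw [hgen] at hle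
  exact MonoidHom.mem_ker.mp (hle (mem_top w))

theorem card_le_bound (ha : a = orderOf (p : ZMod q)) (hpq : p ≠ q) (hP : IsPGroup p W) {σ : MulAut W}
    (h : SAct q σ) (π : W →* Multiplicative F) (hs : Function.Surjective π)
    (hπσ : ∀ w, Multiplicative.toAdd (π (σ w)) = R.ζ * Multiplicative.toAdd (π w))
    (hker : ∀ w, π w = 1 → σ w = w) :
    Nat.card W ≤ p ^ (if a % 2 = 1 then 0 else a / 2) * p ^ a := by
  haveI := R.finite
  have hfix : ∀ w, w ∈ fixedSub σ ↔ π w = 1 := by
    refine fun w => ⟨fun hw => ?_, hker w⟩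
    have h1 := hπσ w
    rw [mem_fixedSub.mp hw] at h1
    by_contra hne
    refine R.ne (mul_right_cancel₀ (fun e => hne (Multiplicative.toAdd.injective e)) ?_)
    rw [one_mul]; exact h1.symm
  set C := fixedSub σ
  have hCk : C = π.ker := Subgroup.ext fun w => (hfix w).trans MonoidHom.mem_ker.symm
  have hcz : C ≤ center W := h.fixed_le_center hP hpq
  have hcm : ∀ u v : W, ⁅u, v⁆ ∈ center W := fun u v => hcz (h.comm_fixed hP u v)
  have hbl : ∀ u u' v : W, ⁅u * u', v⁆ = ⁅u, v⁆ * ⁅u', v⁆ := fun u u' v => by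
    calc ⁅u * u', v⁆ = u * ⁅u', v⁆ * u⁻¹ * ⁅u, v⁆ := by simp only [commutatorElement_def]; group
      _ = ⁅u, v⁆ * ⁅u', v⁆ := by
          rw [mem_center_iff.mp (hcm u' v) u, mul_inv_cancel_right, mem_center_iff.mp (hcm u' v)]
  have hbr : ∀ u v v' : W, ⁅u, v * v'⁆ = ⁅u, v⁆ * ⁅u, v'⁆ := fun u v v' => by
    calc ⁅u, v * v'⁆ = ⁅u, v⁆ * (v * ⁅u, v'⁆ * v⁻¹) := by simp only [commutatorElement_def]; group
      _ = _ := by rw [mem_center_iff.mp (hcm u v') v, mul_inv_cancel_right]
  have hcp : ∀ u v : W, ⁅u, v⁆ ^ p = 1 := fun u v => by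
    have hn : ∀ n : ℕ, ⁅u ^ n, v⁆ = ⁅u, v⁆ ^ n := by
      intro n
      induction n with
      | zero => simp
      | succ n ih => rw [pow_succ, hbl, ih, pow_succ]
    rw [← hn, commutatorElement_eq_one_iff_mul_comm]
    exact (mem_center_iff.mp (hcz (h.pow_fixed hP u)) v).symm
  have hmul : ∀ u v : W, ∃ c, c ^ p = 1 ∧ c ∈ C ∧ (∀ φ : C →* Multiplicative (ZMod p),
      (∀ x y : W, φ ⟨⁅x, y⁆, h.comm_fixed hP x y⟩ = 1) → ∀ hc : c ∈ C, φ ⟨c, hc⟩ = 1) ∧
      (u * v) ^ p = u ^ p * v ^ p * c := by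
    intro u v
    obtain ⟨k, hk⟩ := pow_mul_central (m := p) hcm u v
    refine ⟨_, ?_, pow_mem (h.comm_fixed hP v u) k, fun φ hφ hc => ?_, hk⟩
    · rw [← pow_mul, mul_comm, pow_mul, hcp, one_pow]
    · rw [show (⟨_, hc⟩ : C) = ⟨⁅v, u⁆, h.comm_fixed hP v u⟩ ^ k from Subtype.ext rfl, map_pow, hφ, one_pow]
  -- the fixed points are generated by commutators and powers
  let N : Subgroup W := closure (Set.range (fun uv : W × W => ⁅uv.1, uv.2⁆) ∪ Set.range (fun u : W => u ^ p))
  have hNC : N ≤ C := (closure_le _).mpr (by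
    rintro _ (⟨uv, rfl⟩ | ⟨u, rfl⟩)
    · exact h.comm_fixed hP _ _
    · exact h.pow_fixed hP u)
  have hCN : C ≤ N := by
    haveI : N.Normal := ⟨fun n hn g => by
      rw [mem_center_iff.mp (hcz (hNC hn)) g, mul_inv_cancel_right]; exact hn⟩
    intro c hc
    letI : CommGroup (W ⧸ N) :=
      { (inferInstance : Group (W ⧸ N)) with
        mul_comm := fun x y => by
          obtain ⟨u, rfl⟩ := QuotientGroup.mk_surjective x
          obtain ⟨v, rfl⟩ := QuotientGroup.mk_surjective y
          rw [← QuotientGroup.mk_mul, ← QuotientGroup.mk_mul, QuotientGroup.eq,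
            show (u * v)⁻¹ * (v * u) = ⁅v⁻¹, u⁻¹⁆ by simp only [commutatorElement_def]; group]
          exact subset_closure (Or.inl ⟨(v⁻¹, u⁻¹), rfl⟩) }
    have hN : ∀ n ∈ N, σ n = n := fun n hn => mem_fixedSub.mp (hNC hn)
    let d : W →* W ⧸ N := MonoidHom.mk' (fun v => (v : W ⧸ N)⁻¹ * ((σ v : W) : W ⧸ N)) fun u v => by
      rw [QuotientGroup.mk_mul, map_mul, QuotientGroup.mk_mul, mul_inv]; exact mul_mul_mul_comm _ _ _ _
    have hd : (c : W ⧸ N) ∈ d.range := by
      have hle : closure (Set.range fun v : W => v⁻¹ * σ v) ≤ d.range.comap (QuotientGroup.mk' N) :=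
        (closure_le _).mpr (by rintro _ ⟨v, rfl⟩; exact ⟨v, rfl⟩)
      rw [h.gen hP hpq] at hle
      exact hle (mem_top c)
    obtain ⟨v, hv⟩ := hd
    have h1 : (v⁻¹ * σ v)⁻¹ * c ∈ N := QuotientGroup.eq.mp hv
    have h2 : v⁻¹ * σ v ∈ C := by
      have := mul_mem hc (inv_mem (hNC h1))
      simpa using this
    have hvf := fpf hP hpq h.pow (mem_fixedSub.mp h2)
    rwa [hvf, inv_mul_cancel, inv_one, one_mul] at h1
  have hpp : ∀ u : W, (u ^ p) ^ p = 1 := by
    intro u
    let CC : Subgroup W := center W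
    letI : CommGroup CC :=
      { (inferInstance : Group CC) with mul_comm := fun x y => Subtype.ext (mem_center_iff.mp y.2 x.1) }
    let f : W →* CC := MonoidHom.mk' (fun u => ⟨(u ^ p) ^ p, pow_mem (hcz (h.pow_fixed hP u)) p⟩) fun u v => by
      refine Subtype.ext ?_
      obtain ⟨c, hc1, hcC, -, hc2⟩ := hmul u v
      show ((u * v) ^ p) ^ p = (u ^ p) ^ p * (v ^ p) ^ p
      rw [hc2, Commute.mul_pow (mem_center_iff.mp (hcz hcC) _), hc1, mul_one,
        Commute.mul_pow (mem_center_iff.mp (hcz (h.pow_fixed hP v)) _)]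
    exact congrArg Subtype.val (eq_one_of_invariant (h.gen hP hpq) f (fun w => Subtype.ext (by
      show ((σ w) ^ p) ^ p = (w ^ p) ^ p
      rw [← map_pow, mem_fixedSub.mp (h.pow_fixed hP w)])) u)
  have hexp : ∀ c : C, c ^ p = 1 := by
    rintro ⟨c, hc⟩
    refine Subtype.ext ?_
    show c ^ p = 1
    have hc' := hCN hc
    induction hc' using closure_induction with
    | mem x hx =>
      rcases hx with ⟨uv, rfl⟩ | ⟨u, rfl⟩
      · exact hcp _ _
      · exact hpp u
    | one => exact one_pow p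
    | mul x y hx hy ihx ihy =>
      rw [Commute.mul_pow (mem_center_iff.mp (hcz (hNC hy)) x), ihx (hNC hx), ihy (hNC hy), one_mul]
    | inv x hx ih => rw [inv_pow, ih (hNC hx), inv_one]
  letI : CommGroup C :=
    { (inferInstance : Group C) with
      mul_comm := fun x y => Subtype.ext ((mem_center_iff.mp (hcz y.2) x.1)) }
  letI : Module (ZMod p) (Additive C) := AddCommGroup.zmodModule fun x => by
    apply Additive.toMul.injective
    rw [toMul_nsmul, toMul_zero]
    exact hexp _
  have hcardC : Nat.card C = Nat.card (Additive C →+ ZMod p) := by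
    rw [card_addMonoidHom_zmod]; exact (Nat.card_congr Additive.toMul).symm
  -- the pairing
  choose sec hsec using hs
  let s : F → W := fun x => sec (Multiplicative.ofAdd x)
  have hπs : ∀ x, Multiplicative.toAdd (π (s x)) = x := fun x => by simp [s, hsec]
  let cm : W → W → Additive C := fun u v => Additive.ofMul ⟨⁅u, v⁆, h.comm_fixed hP u v⟩
  have hcl : ∀ u u' v, cm (u * u') v = cm u v + cm u' v := fun u u' v => congrArg Additive.ofMul
    (Subtype.ext (hbl u u' v) : (⟨_, h.comm_fixed hP _ _⟩ : C) = ⟨⁅u, v⁆, h.comm_fixed hP u v⟩ * ⟨⁅u', v⁆, h.comm_fixed hP u' v⟩)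
  have hcr : ∀ u v v', cm u (v * v') = cm u v + cm u v' := fun u v v' => congrArg Additive.ofMul
    (Subtype.ext (hbr u v v') : (⟨_, h.comm_fixed hP _ _⟩ : C) = ⟨⁅u, v⁆, h.comm_fixed hP u v⟩ * ⟨⁅u, v'⁆, h.comm_fixed hP u v'⟩)
  have hcentral : ∀ z ∈ C, ∀ u, cm z u = 0 ∧ cm u z = 0 := fun z hz u => by
    have := mem_center_iff.mp (hcz hz) u
    exact ⟨congrArg Additive.ofMul (Subtype.ext (commutatorElement_eq_one_iff_mul_comm.mpr this.symm) :
        (⟨_, h.comm_fixed hP _ _⟩ : C) = 1),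
      congrArg Additive.ofMul (Subtype.ext (commutatorElement_eq_one_iff_mul_comm.mpr this) :
        (⟨_, h.comm_fixed hP _ _⟩ : C) = 1)⟩
  have hwd : ∀ u v u' v', π u = π u' → π v = π v' → cm u v = cm u' v' := by
    intro u v u' v' hu hv
    have h1 : u'⁻¹ * u ∈ C := by rw [hCk, MonoidHom.mem_ker, map_mul, map_inv, hu, inv_mul_cancel]
    have h2 : v'⁻¹ * v ∈ C := by rw [hCk, MonoidHom.mem_ker, map_mul, map_inv, hv, inv_mul_cancel]
    calc cm u v = cm (u' * (u'⁻¹ * u)) (v' * (v'⁻¹ * v)) := by rw [mul_inv_cancel_left, mul_inv_cancel_left]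
      _ = cm u' v' := by
        rw [hcl, hcr, (hcentral _ h1 _).1, (hcentral _ h2 _).2, add_zero, add_zero]
  let B : F → F → Additive C := fun x y => cm (s x) (s y)
  have hπmul : ∀ x y, π (s (x + y)) = π (s x * s y) := fun x y => Multiplicative.toAdd.injective (by
    rw [map_mul, toAdd_mul, hπs, hπs, hπs])
  have hBl : ∀ x y z, B (x + y) z = B x z + B y z := fun x y z =>
    (hwd _ _ _ _ (hπmul x y) rfl).trans (hcl _ _ _)
  have hBr : ∀ x y z, B x (y + z) = B x y + B x z := fun x y z =>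
    (hwd _ _ _ _ rfl (hπmul y z)).trans (hcr _ _ _)
  have hBz : ∀ x y, B (R.ζ * x) (R.ζ * y) = B x y := fun x y => by
    refine (hwd _ _ (σ (s x)) (σ (s y)) ?_ ?_).trans ?_
    · exact Multiplicative.toAdd.injective (by rw [hπs, hπσ, hπs])
    · exact Multiplicative.toAdd.injective (by rw [hπs, hπσ, hπs])
    · refine congrArg Additive.ofMul (Subtype.ext ?_)
      show ⁅σ (s x), σ (s y)⁆ = ⁅s x, s y⁆
      rw [← map_commutatorElement]
      exact mem_fixedSub.mp (h.comm_fixed hP _ _)
  have hBself : ∀ x, B x x = 0 := fun x =>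
    congrArg Additive.ofMul (Subtype.ext (commutatorElement_self _) : (⟨_, h.comm_fixed hP _ _⟩ : C) = 1)
  have hBanti : ∀ x y, B x y + B y x = 0 := fun x y => by
    have := hBself (x + y)
    rwa [hBl, hBr, hBr, hBself, hBself, zero_add, add_zero] at this
  have hBpow : ∀ (k : ℕ) (x y), B (R.ζ ^ k * x) (R.ζ ^ k * y) = B x y := by
    intro k
    induction k with
    | zero => intro x y; simp
    | succ k ih => intro x y; rw [pow_succ, mul_assoc, mul_assoc, ih, hBz]
  let β : (Additive C →+ ZMod p) → oddFun R := fun lam =>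
    ⟨AddMonoidHom.mk' (fun y => lam (B 1 y)) (fun y z => by rw [hBr, map_add]),
      by show lam (B 1 1) = 0; rw [hBself, map_zero], fun k => by
        show lam (B 1 (R.ζ ^ k)) + lam (B 1 (R.ζ⁻¹ ^ k)) = 0
        rw [← hBpow k 1 (R.ζ⁻¹ ^ k), mul_one, ← mul_pow, mul_inv_cancel₀ R.ζ_ne_zero, one_pow, ← map_add,
          hBanti, map_zero]⟩
  have hβ : Function.Injective β := by
    intro l1 l2 hl
    have h0 : ∀ y, (l1 - l2) (B 1 y) = 0 := fun y => sub_eq_zero.mpr (DFunLike.congr_fun (congrArg Subtype.val hl) y)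
    set lam := l1 - l2 with hlam
    let S : AddSubgroup F :=
      { carrier := {x | ∀ y, lam (B x y) = 0}
        zero_mem' := fun y => by
          have := hBl 0 0 y
          rw [add_zero, eq_comm, add_eq_left] at this
          rw [this, map_zero]
        add_mem' := fun {x x'} hx hx' y => by rw [hBl, map_add, hx, hx', add_zero]
        neg_mem' := fun {x} hx y => by
          have h1 := congrArg lam (hBl x (-x) y)
          rw [add_neg_cancel, map_add, hx, zero_add] at h1
          have h2 := hBl 0 0 y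
          rw [add_zero, eq_comm, add_eq_left] at h2
          rw [← h1, h2, map_zero] }
    have hS : S = ⊤ := R.addSubgroup_eq_top S (fun x hx y => by
      rw [show y = R.ζ * (R.ζ⁻¹ * y) by rw [← mul_assoc, mul_inv_cancel₀ R.ζ_ne_zero, one_mul], hBz]
      exact hx _) (s := 1) h0 one_ne_zero
    have hcomm0 : ∀ u v, lam (cm u v) = 0 := fun u v => by
      rw [hwd u v (s (Multiplicative.toAdd (π u))) (s (Multiplicative.toAdd (π v)))
        (Multiplicative.toAdd.injective (hπs _).symm) (Multiplicative.toAdd.injective (hπs _).symm)]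
      exact (hS ▸ AddSubgroup.mem_top _ : Multiplicative.toAdd (π u) ∈ S) _
    let φ : C →* Multiplicative (ZMod p) := AddMonoidHom.toMultiplicativeRight lam
    have hφ0 : ∀ x y : W, φ ⟨⁅x, y⁆, h.comm_fixed hP x y⟩ = 1 := fun x y => congrArg Multiplicative.ofAdd (hcomm0 x y)
    let f : W →* Multiplicative (ZMod p) := MonoidHom.mk' (fun u => φ ⟨u ^ p, h.pow_fixed hP u⟩) fun u v => by
      obtain ⟨c, -, hcC, hcφ, hc⟩ := hmul u v
      show φ _ = _
      rw [show (⟨(u * v) ^ p, h.pow_fixed hP _⟩ : C) =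
        ⟨u ^ p, h.pow_fixed hP u⟩ * ⟨v ^ p, h.pow_fixed hP v⟩ * ⟨c, hcC⟩ from Subtype.ext hc, map_mul, map_mul,
        hcφ φ hφ0 hcC, mul_one]
    have hpow0 : ∀ u, f u = 1 := eq_one_of_invariant (h.gen hP hpq) f fun w => by
      show φ _ = φ _
      exact congrArg φ (Subtype.ext (by
        show σ w ^ p = w ^ p
        rw [← map_pow, mem_fixedSub.mp (h.pow_fixed hP w)]))
    have hker2 : C ≤ φ.ker.map C.subtype := hCN.trans ((closure_le _).mpr (by
      rintro _ (⟨uv, rfl⟩ | ⟨u, rfl⟩)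
      · exact ⟨_, hφ0 uv.1 uv.2, rfl⟩
      · exact ⟨_, hpow0 u, rfl⟩))
    refine sub_eq_zero.mp (hlam ▸ AddMonoidHom.ext fun x => ?_)
    obtain ⟨c', hc', hcc⟩ := hker2 (Additive.toMul x).2
    rw [show c' = Additive.toMul x from Subtype.ext hcc] at hc'
    exact congrArg Multiplicative.toAdd (MonoidHom.mem_ker.mp hc')
  haveI : Finite (F →+ ZMod p) := Finite.of_injective _ DFunLike.coe_injective
  have hC : Nat.card C ≤ p ^ (if a % 2 = 1 then 0 else a / 2) :=
    hcardC.le.trans ((Nat.card_le_card_of_injective β hβ).trans (R.card_oddFun ha hpq))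
  rw [← C.card_mul_index, hCk, Subgroup.index_ker, MonoidHom.range_eq_top.mpr
    (fun x => ⟨sec x, hsec x⟩), Subgroup.card_top, Nat.card_congr Multiplicative.toAdd, R.card, ← hCk]
  exact Nat.mul_le_mul_right _ hC

end

end Cfsg.Agent.Lib.MaxSchmidt
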