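import Cfsg.Agent.Lib.MaxSchmidt.Action
import Cfsg.Agent.Lib.MaxSchmidt.Field

/-!
# The module structure on the quotient by the fixed points
-/

set_option autoImplicit false
set_option maxHeartbeats 400000

namespace Cfsg.Agent.Lib.MaxSchmidt

open Polynomial
open scoped commutatorElement

variable {p q a : ℕ} [Fact p.Prime] [Fact q.Prime] {F : Type*} [Field F] [Algebra (ZMod p) F]

/-- An operator of order `q` without proper invariant subspaces is a field multiplication. -/
theorem exists_line (R : Root p q a F) {V : Type*} [AddCommGroup V] [Module (ZMod p) V] [Finite V]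
    [Nontrivial V] (T : Module.End (ZMod p) V) (hTq : T ^ q = 1) (hT1 : T ≠ 1)
    (hirr : ∀ S : Submodule (ZMod p) V, (∀ s ∈ S, T s ∈ S) → S = ⊥ ∨ S = ⊤) :
    ∃ j i : ℕ, (T ^ j) ^ i = T ∧ i * j % q = 1 ∧
      ∃ e : F ≃ₗ[ZMod p] V, ∀ z, e (R.ζ * z) = (T ^ j) (e z) := by
  classical
  have hFin : Finite F := Nat.finite_of_card_ne_zero (by rw [R.card]; exact pow_ne_zero _ (Fact.out : p.Prime).ne_zero)
  set f := minpoly (ZMod p) T
  have hint : IsIntegral (ZMod p) T := Algebra.IsIntegral.isIntegral T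
  have hdiv : ∀ g : (ZMod p)[X], aeval T g = 0 ∨ Function.Injective (aeval T g) := by
    intro g
    rcases hirr (LinearMap.ker (aeval T g)) (fun s hs => by
      rw [LinearMap.mem_ker] at hs ⊢
      have hc : aeval T g * T = T * aeval T g := by
        simpa using congrArg (aeval T) (mul_comm g X)
      have := LinearMap.congr_fun hc s
      rw [Module.End.mul_apply, Module.End.mul_apply, hs, map_zero] at this
      exact this) with h | h
    · exact Or.inr (LinearMap.ker_eq_bot.mp h)
    · exact Or.inl (LinearMap.ker_eq_top.mp h)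
  have hirrf : Irreducible f := by
    rw [Polynomial.Monic.irreducible_iff_natDegree (minpoly.monic hint)]
    refine ⟨fun h => minpoly.ne_one (ZMod p) T h, fun g h hg hh hgh => ?_⟩
    have h0 : aeval T g * aeval T h = 0 := by rw [← map_mul, hgh, minpoly.aeval]
    rcases hdiv g with h1 | h1
    · refine Or.inr ?_
      have : f.natDegree ≤ g.natDegree := natDegree_le_of_dvd (minpoly.dvd (ZMod p) T h1) hg.ne_zero
      have hd : f.natDegree = g.natDegree + h.natDegree := by rw [← hg.natDegree_mul hh, hgh]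
      omega
    · refine Or.inl ?_
      have h2 : aeval T h = 0 := LinearMap.ext fun v => h1 (by
        have := LinearMap.congr_fun h0 v
        simpa using this)
      have : f.natDegree ≤ h.natDegree := natDegree_le_of_dvd (minpoly.dvd (ZMod p) T h2) hh.ne_zero
      have hd : f.natDegree = g.natDegree + h.natDegree := by rw [← hg.natDegree_mul hh, hgh]
      omega
  -- a root of the minimal polynomial
  have hord : orderOf R.ζ = q := orderOf_eq_prime R.pow R.ne
  have hprim : IsPrimitiveRoot R.ζ q := IsPrimitiveRoot.iff_orderOf.mpr hord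
  obtain ⟨r, hr, hfr⟩ : ∃ r ∈ nthRootsFinset q (1 : F), (f.map (algebraMap (ZMod p) F)).IsRoot r := by
    by_contra! hno
    have hdvd : f.map (algebraMap (ZMod p) F) ∣ ∏ r ∈ nthRootsFinset q (1 : F), (X - C r) := by
      rw [← X_pow_sub_one_eq_prod (Fact.out : q.Prime).pos hprim]
      have h1 : f ∣ X ^ q - 1 := minpoly.dvd (ZMod p) T (by
        rw [map_sub, map_pow, aeval_X, map_one, hTq, sub_self])
      have := Polynomial.map_dvd (algebraMap (ZMod p) F) h1
      simpa using this
    have hcop : IsCoprime (f.map (algebraMap (ZMod p) F)) (∏ r ∈ nthRootsFinset q (1 : F), (X - C r)) :=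
      IsCoprime.prod_right fun r hr => ((irreducible_X_sub_C r).coprime_iff_not_dvd.mpr (fun hd =>
        hno r hr (dvd_iff_isRoot.mp hd))).symm
    have h2 := natDegree_eq_zero_of_isUnit (hcop.isUnit_of_dvd' dvd_rfl hdvd)
    rw [natDegree_map] at h2
    exact (minpoly.natDegree_pos hint).ne' h2
  rw [mem_nthRootsFinset (Fact.out : q.Prime).pos] at hr
  obtain ⟨i, hiq, rfl⟩ := hprim.eq_pow_of_pow_eq_one hr
  have hfη : aeval (R.ζ ^ i) f = 0 := by rwa [IsRoot, eval_map, ← aeval_def] at hfr
  have hi0 : i ≠ 0 := by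
    rintro rfl
    rw [pow_zero] at hfη
    have h1 : f = minpoly (ZMod p) (1 : F) := minpoly.eq_of_irreducible_of_monic hirrf hfη (minpoly.monic hint)
    rw [minpoly.one] at h1
    have h2 : aeval T f = 0 := minpoly.aeval _ _
    rw [h1, map_sub, aeval_X, map_one, sub_eq_zero] at h2
    exact hT1 h2
  obtain ⟨j, hij⟩ : ∃ j, i * j % q = 1 := by
    refine ⟨((i : ZMod q)⁻¹).val, ?_⟩
    have h1 : ((i * ((i : ZMod q)⁻¹).val : ℕ) : ZMod q) = ((1 : ℕ) : ZMod q) := by
      rw [Nat.cast_mul, ZMod.natCast_zmod_val, mul_inv_cancel₀, Nat.cast_one]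
      rw [Ne, ZMod.natCast_eq_zero_iff]
      exact fun hd => by have := Nat.le_of_dvd (Nat.pos_of_ne_zero hi0) hd; omega
    rw [ZMod.natCast_eq_natCast_iff', Nat.one_mod_eq_one.mpr (Fact.out : q.Prime).ne_one] at h1
    exact h1
  have hTT : (T ^ j) ^ i = T := by
    rw [← pow_mul, mul_comm, ← Nat.mod_add_div (i * j) q, hij, pow_add, pow_one, pow_mul, hTq, one_pow, mul_one]
  have hm : aeval (T ^ j) (minpoly (ZMod p) R.ζ) = 0 := by
    have hfmin : f = minpoly (ZMod p) (R.ζ ^ i) :=
      minpoly.eq_of_irreducible_of_monic hirrf hfη (minpoly.monic hint)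
    have h1 : f ∣ (minpoly (ZMod p) R.ζ).comp (X ^ j) := by
      rw [hfmin]
      refine minpoly.dvd _ _ ?_
      rw [aeval_comp, map_pow, aeval_X, ← pow_mul, ← Nat.mod_add_div (i * j) q, hij, pow_add, pow_one,
        pow_mul, R.pow, one_pow, mul_one, minpoly.aeval]
    obtain ⟨c, hc⟩ := h1
    have h2 := congrArg (aeval T) hc
    rwa [map_mul, minpoly.aeval, zero_mul, aeval_comp, map_pow, aeval_X] at h2
  let pb := PowerBasis.ofAdjoinEqTop (Algebra.IsIntegral.isIntegral R.ζ) R.gen
  let φ := pb.lift (T ^ j) hm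
  have hφ : φ R.ζ = T ^ j := pb.lift_gen (T ^ j) hm
  obtain ⟨v0, hv0⟩ := exists_ne (0 : V)
  let L : F →ₗ[ZMod p] V :=
    { toFun := fun z => φ z v0
      map_add' := fun x y => by rw [map_add, LinearMap.add_apply]
      map_smul' := fun c x => by rw [map_smul, LinearMap.smul_apply, RingHom.id_apply] }
  have hLinj : Function.Injective L := by
    rw [← LinearMap.ker_eq_bot, LinearMap.ker_eq_bot']
    intro z hz
    by_contra hne
    refine hv0 ?_
    have h1 : (φ z⁻¹ * φ z) v0 = v0 := by rw [← map_mul, inv_mul_cancel₀ hne, map_one, Module.End.one_apply]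
    rw [← h1, Module.End.mul_apply, show φ z v0 = 0 from hz, map_zero]
  have hLsurj : Function.Surjective L := by
    rw [← LinearMap.range_eq_top]
    refine (hirr _ ?_).resolve_left ?_
    · rintro _ ⟨z, rfl⟩
      refine ⟨R.ζ ^ i * z, ?_⟩
      show φ (R.ζ ^ i * z) v0 = T (φ z v0)
      rw [map_mul, map_pow, hφ, hTT, Module.End.mul_apply]
    · intro e
      have : L 1 ∈ LinearMap.range L := ⟨1, rfl⟩
      rw [e, Submodule.mem_bot] at this
      exact hv0 (by simpa [L] using this)
  refine ⟨j, i, hTT, hij, LinearEquiv.ofBijective L ⟨hLinj, hLsurj⟩, fun z => ?_⟩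
  show φ (R.ζ * z) v0 = (T ^ j) (φ z v0)
  rw [map_mul, hφ, Module.End.mul_apply]

theorem exists_proj_aux (R : Root p q a F) {P : Type*} [Group P] [Finite P] (hpq : p ≠ q) (hP : IsPGroup p P)
    {σ : MulAut P} (h : SAct q σ) {A : Type*} [CommGroup A] [Finite A] [Module (ZMod p) (Additive A)]
    (f : P →* A) (hs : Function.Surjective f) (hf : ∀ u, f u = 1 ↔ u ∈ fixedSub σ) (T0 : A →* A)
    (hT0 : ∀ u, T0 (f u) = f (σ u)) :
    ∃ j i : ℕ, (σ ^ j) ^ i = σ ∧ ∃ π : P →* Multiplicative F, Function.Surjective π ∧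
      (∀ w, Multiplicative.toAdd (π ((σ ^ j) w)) = R.ζ * Multiplicative.toAdd (π w)) ∧
      (∀ w, π w = 1 → σ w = w) := by
  set C := fixedSub σ with hC
  let T : Module.End (ZMod p) (Additive A) := (MonoidHom.toAdditive T0).toZModLinearMap p
  have hT : ∀ u : P, T (Additive.ofMul (f u)) = Additive.ofMul (f (σ u)) := fun u => congrArg Additive.ofMul (hT0 u)
  have hTn : ∀ (n : ℕ) (u : P), (T ^ n) (Additive.ofMul (f u)) = Additive.ofMul (f ((σ ^ n) u)) := by
    intro n
    induction n with
    | zero => intro u; simp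
    | succ n ih =>
      intro u
      rw [pow_succ', Module.End.mul_apply, ih, hT, pow_succ', MulAut.mul_apply]
  have hsurj : ∀ x : Additive A, ∃ u : P, Additive.ofMul (f u) = x := fun x => by
    obtain ⟨u, hu⟩ := hs (Additive.toMul x)
    exact ⟨u, by rw [hu, ofMul_toMul]⟩
  have hzero : ∀ u : P, Additive.ofMul (f u) = 0 ↔ u ∈ C := fun u => by
    rw [ofMul_eq_zero]; exact hf u
  haveI : Nontrivial (Additive A) := by
    obtain ⟨u, hu⟩ : ∃ u, u ∉ C := by
      by_contra! hall
      exact h.ne (MulEquiv.ext fun u => mem_fixedSub.mp (hall u))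
    exact ⟨⟨Additive.ofMul (f u), 0, fun e => hu ((hzero u).mp e)⟩⟩
  have hT1 : T ≠ 1 := fun e => h.ne (MulEquiv.ext fun u => by
    have h1 := hT u
    rw [e, Module.End.one_apply, Additive.ofMul.apply_eq_iff_eq, ← inv_mul_eq_one, ← map_inv, ← map_mul, hf] at h1
    exact fpf hP hpq h.pow (mem_fixedSub.mp h1))
  obtain ⟨j, i, hTT, hij, e, he⟩ := exists_line R T (LinearMap.ext fun x => by
      obtain ⟨u, rfl⟩ := hsurj x
      rw [hTn, h.pow, MulAut.one_apply, Module.End.one_apply]) hT1 (by
    intro S hS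
    let U : Subgroup P :=
      { carrier := {u | Additive.ofMul (f u) ∈ S}
        one_mem' := by
          show Additive.ofMul (f 1) ∈ S
          rw [(hzero 1).mpr (one_mem C)]; exact S.zero_mem
        mul_mem' := fun {u v} hu hv => by
          show Additive.ofMul (f (u * v)) ∈ S
          rw [map_mul, ofMul_mul]; exact S.add_mem hu hv
        inv_mem' := fun {u} hu => by
          show Additive.ofMul (f u⁻¹) ∈ S
          rw [map_inv, ofMul_inv]; exact S.neg_mem hu }
    by_cases hU : U = ⊤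
    · exact Or.inr (eq_top_iff.mpr fun x _ => by
        obtain ⟨u, rfl⟩ := hsurj x
        exact (show u ∈ U from hU ▸ Subgroup.mem_top u))
    · refine Or.inl (eq_bot_iff.mpr fun x hx => ?_)
      obtain ⟨u, rfl⟩ := hsurj x
      rw [Submodule.mem_bot, hzero]
      exact h.fix U hU (fun v hv => by
        show Additive.ofMul (f (σ v)) ∈ S
        rw [← hT]; exact hS _ hv) u hx)
  have hσσ : (σ ^ j) ^ i = σ := by
    rw [← pow_mul, mul_comm, ← Nat.mod_add_div (i * j) q, hij, pow_add, pow_one, pow_mul, h.pow, one_pow, mul_one]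
  refine ⟨j, i, hσσ, (AddMonoidHom.toMultiplicativeRight e.symm.toAddMonoidHom).comp f, ?_, ?_, ?_⟩
  · intro z
    obtain ⟨u, hu⟩ := hsurj (e (Multiplicative.toAdd z))
    refine ⟨u, ?_⟩
    show Multiplicative.ofAdd (e.symm (Additive.ofMul (f u))) = z
    rw [hu, LinearEquiv.symm_apply_apply, ofAdd_toAdd]
  · intro w
    show e.symm (Additive.ofMul (f ((σ ^ j) w))) = R.ζ * e.symm (Additive.ofMul (f w))
    rw [LinearEquiv.symm_apply_eq, he, LinearEquiv.apply_symm_apply, hTn]
  · intro w hw
    have h1 : e.symm (Additive.ofMul (f w)) = 0 := congrArg Multiplicative.toAdd hw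
    rw [LinearEquiv.map_eq_zero_iff, hzero] at h1
    exact mem_fixedSub.mp h1


/-- The projection to the field. -/
theorem exists_proj (R : Root p q a F) {P : Type*} [Group P] [Finite P] (hpq : p ≠ q) (hP : IsPGroup p P)
    {σ : MulAut P} (h : SAct q σ) :
    ∃ j i : ℕ, (σ ^ j) ^ i = σ ∧ ∃ π : P →* Multiplicative F, Function.Surjective π ∧
      (∀ w, Multiplicative.toAdd (π ((σ ^ j) w)) = R.ζ * Multiplicative.toAdd (π w)) ∧
      (∀ w, π w = 1 → σ w = w) := by
  set C := fixedSub σ with hC
  have hcz := h.fixed_le_center hP hpq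
  haveI : C.Normal := ⟨fun n hn g => by
    rw [Subgroup.mem_center_iff.mp (hcz hn) g, mul_inv_cancel_right]; exact hn⟩
  letI : CommGroup (P ⧸ C) :=
    { (inferInstance : Group (P ⧸ C)) with
      mul_comm := fun x y => by
        obtain ⟨u, rfl⟩ := QuotientGroup.mk_surjective x
        obtain ⟨v, rfl⟩ := QuotientGroup.mk_surjective y
        rw [← QuotientGroup.mk_mul, ← QuotientGroup.mk_mul, QuotientGroup.eq,
          show (u * v)⁻¹ * (v * u) = ⁅v⁻¹, u⁻¹⁆ by simp only [commutatorElement_def]; group]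
        exact h.comm_fixed hP _ _ }
  letI : Module (ZMod p) (Additive (P ⧸ C)) := AddCommGroup.zmodModule fun x => by
    apply Additive.toMul.injective
    rw [toMul_nsmul, toMul_zero]
    obtain ⟨u, hu⟩ := QuotientGroup.mk_surjective (Additive.toMul x)
    rw [← hu, ← QuotientGroup.mk_pow, QuotientGroup.eq_one_iff]
    exact h.pow_fixed hP u
  exact exists_proj_aux R hpq hP h (QuotientGroup.mk' C) (QuotientGroup.mk'_surjective C)
    (fun u => QuotientGroup.eq_one_iff u)
    (QuotientGroup.map C C σ.toMonoidHom (fun x hx => by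
      show σ x ∈ C
      rw [mem_fixedSub.mp hx]; exact hx))
    (fun u => rfl)

end Cfsg.Agent.Lib.MaxSchmidt
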