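import Cfsg.Prelude.Def_Transfer
import Cfsg.Agent.Lib.MaxSchmidt.Bound
import Cfsg.Agent.Lib.MaxSchmidt.Linear
import Cfsg.Agent.Lib.Transfer.Basic
import Cfsg.Agent.Lib.Solvable.FixedPointFree

/-!
# The maximal minimal non-`p`-nilpotent group
-/

set_option autoImplicit false
set_option maxHeartbeats 400000

namespace Cfsg.Agent.Lib.MaxSchmidt

open scoped commutatorElement
open Subgroup

universe u w

variable {p q a : ℕ} [Fact p.Prime] [Fact q.Prime] {F : Type*} [Field F] [Algebra (ZMod p) F]
variable {N : Type w} [Group N] [Finite N] {H : Type u} [CommGroup H] [Finite H]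

theorem exists_pow_of_gen {g : H} {n : ℕ} (hg : orderOf g = n) (hc : Nat.card H = n) (x : H) :
    ∃ k : ℕ, x = g ^ k := by
  have h : zpowers g = ⊤ := Subgroup.eq_top_of_card_eq _ (by rw [Nat.card_zpowers, hg, hc])
  obtain ⟨k, hk⟩ := mem_powers_iff_mem_zpowers.mpr (h ▸ mem_top x : x ∈ zpowers g)
  exact ⟨k, hk.symm⟩

theorem minimal (R : Root p q a F) (hpq : p ≠ q) (hN : IsPGroup p N) {σ : MulAut N} (h : SAct q σ)
    (π : N →* Multiplicative F)
    (hπσ : ∀ w, Multiplicative.toAdd (π (σ w)) = R.ζ * Multiplicative.toAdd (π w))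
    (hker : ∀ w, π w = 1 → σ w = w) (act : H →* MulAut N) {g : H} {r : ℕ} (hg : orderOf g = q ^ r)
    (hH : Nat.card H = q ^ r) (hact : act g = σ) :
    ¬ Cfsg.HasNormalPComplement p (SemidirectProduct N H act) ∧
      ∀ K : Subgroup (SemidirectProduct N H act), K ≠ ⊤ → Cfsg.HasNormalPComplement p ↥K := by
  haveI : Finite (SemidirectProduct N H act) := Finite.of_equiv _ SemidirectProduct.equivProd.symm
  set inN := (SemidirectProduct.inl : N →* SemidirectProduct N H act)
  set inH := (SemidirectProduct.inr : H →* SemidirectProduct N H act)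
  have hconj : ∀ x : N, inH g * inN x * (inH g)⁻¹ = inN (σ x) := fun x => by
    rw [← hact, SemidirectProduct.inl_aut, map_inv]
  refine ⟨fun hc => h.ne ?_, fun K hK => ?_⟩
  · haveI : (inN.range).Normal := by
      rw [SemidirectProduct.range_inl_eq_ker_rightHom]; infer_instance
    have hQ : IsPGroup p inN.range := hN.of_surjective _ inN.rangeRestrict_surjective
    have hcop : Nat.Coprime (orderOf (inH g)) p := by
      rw [orderOf_injective inH SemidirectProduct.inr_injective, hg]
      exact ((Nat.coprime_primes Fact.out Fact.out).mpr hpq.symm).pow_left r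
    have h1 := Transfer.commute_of_hasNormalPComplement hc hQ hcop
    refine MulEquiv.ext fun x => SemidirectProduct.inl_injective (φ := act) ?_
    rw [MulAut.one_apply, show (SemidirectProduct.inl : N →* SemidirectProduct N H act) (σ x) = inN (σ x) from rfl,
      ← hconj, ← Subgroup.mem_centralizer_iff.mp h1 (inN x) ⟨x, rfl⟩, mul_inv_cancel_right]
  · suffices hnil : Group.IsNilpotent K by
      exact Solvable.FixedPointFree.hasNormalPComplement_of_isNilpotent p
    by_cases hfull : ∃ k ∈ K, SemidirectProduct.rightHom k = g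
    · obtain ⟨k, hk, hkg⟩ := hfull
      have hkn : k = inN k.left * inH g := by
        conv_lhs => rw [← SemidirectProduct.inl_left_mul_inr_right k]
        rw [← hkg]; rfl
      set n := k.left
      let S : Subgroup N := K.comap inN
      have hSinv : ∀ x ∈ S, n * σ x * n⁻¹ ∈ S := fun x hx => by
        show inN (n * σ x * n⁻¹) ∈ K
        rw [map_mul inN, map_mul inN, map_inv inN, ← hconj]
        have := mul_mem (mul_mem hk hx) (inv_mem hk)
        rw [hkn] at this
        simpa [mul_assoc] using this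
      let P0 : AddSubgroup F :=
        { carrier := {x | ∃ u ∈ S, Multiplicative.toAdd (π u) = x}
          zero_mem' := ⟨1, one_mem _, by rw [map_one, toAdd_one]⟩
          add_mem' := fun {x y} ⟨u, hu, hux⟩ ⟨v, hv, hvy⟩ => ⟨u * v, mul_mem hu hv, by rw [map_mul, toAdd_mul, hux, hvy]⟩
          neg_mem' := fun {x} ⟨u, hu, hux⟩ => ⟨u⁻¹, inv_mem hu, by rw [map_inv, toAdd_inv, hux]⟩ }
      have hSker : ∀ u ∈ S, π u = 1 := by
        intro u hu
        by_contra hne
        have hP : P0 = ⊤ := R.addSubgroup_eq_top P0 (fun x ⟨v, hv, hvx⟩ => ⟨_, hSinv v hv, by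
          rw [map_mul π, map_mul π, map_inv π, toAdd_mul, toAdd_mul, toAdd_inv, add_neg_cancel_comm, hπσ, hvx]⟩)
          (s := Multiplicative.toAdd (π u)) ⟨u, hu, rfl⟩ (fun e => hne (Multiplicative.toAdd.injective e))
        -- conjugation by `n` preserves `S`
        obtain ⟨v, hv, hvn⟩ : Multiplicative.toAdd (π n) ∈ P0 := hP ▸ AddSubgroup.mem_top _
        have hcz : v⁻¹ * n ∈ center N := h.fixed_le_center hN hpq (hker _ (by
          rw [map_mul, map_inv, Multiplicative.toAdd.injective hvn, inv_mul_cancel]))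
        have hinv : ∀ x ∈ S, σ x ∈ S := fun x hx => by
          have h1 := mul_mem (mul_mem (inv_mem hv) (hSinv x hx)) hv
          have h2 := mem_center_iff.mp hcz (σ x)
          have e : v⁻¹ * (n * σ x * n⁻¹) * v = σ x := by
            calc v⁻¹ * (n * σ x * n⁻¹) * v = (v⁻¹ * n) * σ x * (v⁻¹ * n)⁻¹ := by group
              _ = σ x := by rw [← h2, mul_inv_cancel_right]
          rwa [e] at h1
        by_cases hS : S = ⊤
        · refine hK ((Subgroup.eq_top_iff' K).mpr fun x => ?_)
          have hN' : ∀ y, inN y ∈ K := fun y => (show y ∈ S from hS ▸ mem_top y)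
          have hgK : inH g ∈ K := by
            have := mul_mem (inv_mem (hN' n)) hk
            rwa [hkn, inv_mul_cancel_left] at this
          obtain ⟨i, hi⟩ := exists_pow_of_gen hg hH x.right
          rw [← SemidirectProduct.inl_left_mul_inr_right x, hi, map_pow]
          exact mul_mem (hN' _) (pow_mem hgK i)
        · have h1 := hπσ u
          rw [h.fix S hS hinv u hu] at h1
          refine R.ne (mul_right_cancel₀ (fun e => hne (Multiplicative.toAdd.injective e)) ?_)
          rw [one_mul]; exact h1.symm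
      -- every element is a power of `k` times a central element
      have hdec : ∀ x ∈ K, ∃ i : ℕ, ∃ c ∈ S, x = k ^ i * inN c := by
        intro x hx
        obtain ⟨i, hi⟩ := exists_pow_of_gen hg hH x.right
        refine ⟨i, ((k ^ i)⁻¹ * x).left, ?_, ?_⟩
        all_goals
          have hr : ((k ^ i)⁻¹ * x).right = 1 := by
            show SemidirectProduct.rightHom ((k ^ i)⁻¹ * x) = 1
            rw [map_mul, map_inv, map_pow, hkg, ← hi]
            exact inv_mul_cancel _
          have he : inN ((k ^ i)⁻¹ * x).left = (k ^ i)⁻¹ * x := SemidirectProduct.ext rfl hr.symm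
        · show inN _ ∈ K
          rw [he]; exact mul_mem (inv_mem (pow_mem hk i)) hx
        · rw [he, mul_inv_cancel_left]
      have hcomm : ∀ c ∈ S, Commute k (inN c) := by
        intro c hc
        have h1 := hker c (hSker c hc)
        have h2 := mem_center_iff.mp (h.fixed_le_center hN hpq (mem_fixedSub.mpr h1)) n
        show k * inN c = inN c * k
        calc k * inN c = inN n * (inH g * inN c * (inH g)⁻¹) * inH g := by rw [hkn]; group
          _ = inN (n * c) * inH g := by rw [hconj, h1, map_mul]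
          _ = inN c * k := by rw [h2, map_mul, hkn]; group
      have hcomm2 : ∀ c ∈ S, ∀ c' ∈ S, Commute (inN c) (inN c') := fun c hc c' _ =>
        (show Commute c c' from (mem_center_iff.mp (h.fixed_le_center hN hpq (mem_fixedSub.mpr (hker c (hSker c hc)))) c').symm).map inN
      haveI : IsMulCommutative K := ⟨⟨fun x y => by
        obtain ⟨i, c, hc, hx⟩ := hdec x x.2
        obtain ⟨j, c', hc', hy⟩ := hdec y y.2
        refine Subtype.ext ?_
        show (x : SemidirectProduct N H act) * y = y * x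
        rw [hx, hy]
        exact ((((Commute.refl k).pow_pow i j).mul_right ((hcomm c' hc').pow_left i)).mul_left
          ((((hcomm c hc).pow_left j).symm).mul_right (hcomm2 c hc c' hc'))).eq⟩⟩
      exact Cores.isNilpotent_of_isMulCommutative K
    · push Not at hfull
      have hqr : ∀ k ∈ K, act k.right = 1 := by
        intro k hk
        obtain ⟨i, hi⟩ := exists_pow_of_gen hg hH k.right
        rw [hi, map_pow, hact]
        by_cases hd : q ∣ i
        · obtain ⟨m, rfl⟩ := hd
          rw [pow_mul, h.pow, one_pow]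
        · exfalso
          have hc : Nat.Coprime (orderOf g) i := by
            rw [hg]; exact ((Fact.out : q.Prime).coprime_iff_not_dvd.mpr hd).pow_left r
          obtain ⟨m, hm⟩ := exists_pow_eq_self_of_coprime hc.symm
          refine hfull (k ^ m) (pow_mem hk m) ?_
          rw [map_pow, show SemidirectProduct.rightHom k = k.right from rfl, hi, hm]
      haveI : Group.IsNilpotent N := hN.isNilpotent
      haveI : Group.IsNilpotent H := CommGroup.isNilpotent
      let f : K →* N × H :=
        { toFun := fun k => (k.1.left, k.1.right)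
          map_one' := rfl
          map_mul' := fun x y => Prod.ext (by
            show (x.1 * y.1).left = x.1.left * y.1.left
            rw [SemidirectProduct.mul_left, hqr _ x.2, MulAut.one_apply]) rfl }
      exact Cores.isNilpotent_of_injective f fun x y hxy =>
        Subtype.ext (SemidirectProduct.ext (congrArg Prod.fst hxy) (congrArg Prod.snd hxy))

/-- Every minimal non-`p`-nilpotent group of the given order is a central quotient. -/
theorem universal (R : Root p q a F) (ha : a = orderOf (p : ZMod q)) (hpq : p ≠ q) (hN : IsPGroup p N)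
    {σ : MulAut N} (h : SAct q σ) (π : N →* Multiplicative F) (hπs : Function.Surjective π)
    (hπσ : ∀ w, Multiplicative.toAdd (π (σ w)) = R.ζ * Multiplicative.toAdd (π w))
    (hker : ∀ w, π w = 1 → σ w = w) (hNc : Nat.card N = p ^ (if a % 2 = 1 then 0 else a / 2) * p ^ a)
    (act : H →* MulAut N) {g : H} {r : ℕ} (hg : orderOf g = q ^ r)
    (hH : Nat.card H = q ^ r) (hact : act g = σ)
    {X : Type*} [Group X] [Finite X] (hX1 : ¬ Cfsg.HasNormalPComplement p X)
    (hX2 : ∀ K : Subgroup X, K ≠ ⊤ → Cfsg.HasNormalPComplement p ↥K) (hPn : ∀ P : Sylow p X, (P : Subgroup X).Normal)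
    {t : ℕ} (hXc : Nat.card X = p ^ t * q ^ r) :
    ∃ φ : SemidirectProduct N H act →* X, Function.Surjective φ ∧
      φ.ker ≤ Subgroup.center (SemidirectProduct N H act) := by
  classical
  let P : Sylow p X := default
  haveI hPnn := hPn P
  have hpd : ∀ i : ℕ, ¬ p ∣ q ^ i := fun i hd =>
    hpq ((Nat.prime_dvd_prime_iff_eq Fact.out Fact.out).mp ((Fact.out : p.Prime).dvd_of_dvd_pow hd))
  have hPc : Nat.card (P : Subgroup X) = p ^ t := by
    rw [P.card_eq_multiplicity, hXc, Nat.factorization_mul (pow_ne_zero _ (Fact.out : p.Prime).ne_zero)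
      (pow_ne_zero _ (Fact.out : q.Prime).ne_zero), Finsupp.add_apply, (Fact.out : p.Prime).factorization_pow,
      Finsupp.single_eq_same, Nat.factorization_eq_zero_of_not_dvd (hpd r), add_zero]
  have hsupeq : ∀ K : Subgroup X, Nat.card K = q ^ r → (P : Subgroup X) ⊔ K = ⊤ := fun K hK => by
    refine Subgroup.eq_top_of_card_eq _ (Nat.le_antisymm (Subgroup.card_le_card_group _) ?_)
    refine Nat.le_of_dvd Nat.card_pos (hXc ▸ Nat.Coprime.mul_dvd_of_dvd_of_dvd
      (Nat.Coprime.pow _ _ ((Nat.coprime_primes Fact.out Fact.out).mpr hpq))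
      (hPc ▸ Subgroup.card_dvd_of_le le_sup_left) (hK ▸ Subgroup.card_dvd_of_le le_sup_right))
  -- an element of order `q ^ r` moving `P`
  let Q : Sylow q X := default
  have hQc : Nat.card (Q : Subgroup X) = q ^ r := by
    rw [Q.card_eq_multiplicity, hXc, Nat.factorization_mul (pow_ne_zero _ (Fact.out : p.Prime).ne_zero)
      (pow_ne_zero _ (Fact.out : q.Prime).ne_zero), Finsupp.add_apply, (Fact.out : q.Prime).factorization_pow (k := r),
      Finsupp.single_eq_same, Nat.factorization_eq_zero_of_not_dvd (fun hd => hpq ((Nat.prime_dvd_prime_iff_eq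
        Fact.out Fact.out).mp ((Fact.out : q.Prime).dvd_of_dvd_pow hd)).symm), zero_add]
  obtain ⟨y, hyQ, hy⟩ : ∃ y ∈ (Q : Subgroup X), y ∉ centralizer ((P : Subgroup X) : Set X) := by
    by_contra! hall
    refine hX1 ⟨P, Q, ?_, ?_⟩
    · rw [← normalizer_eq_top_iff, eq_top_iff, ← hsupeq _ hQc]
      exact sup_le ((le_centralizer_iff.mp hall).trans (centralizer_le_normalizer _)) le_normalizer
    · exact Subgroup.isComplement'_of_coprime (by rw [hQc, hPc, hXc, mul_comm])
        (by rw [hQc, hPc]; exact Nat.Coprime.pow _ _ ((Nat.coprime_primes Fact.out Fact.out).mpr hpq.symm))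
  have hcent : ∀ x : X, (∃ i, orderOf x = q ^ i) → (P : Subgroup X) ⊔ zpowers x ≠ ⊤ → x ∈ centralizer ((P : Subgroup X) : Set X) := by
    rintro x ⟨i, hi⟩ hne
    have hnpc := hX2 _ hne
    have hcop : Nat.Coprime (orderOf (⟨x, mem_sup_right (mem_zpowers x)⟩ : ↥((P : Subgroup X) ⊔ zpowers x))) p := by
      rw [Subgroup.orderOf_mk, hi]; exact ((Nat.coprime_primes Fact.out Fact.out).mpr hpq.symm).pow_left i
    have h1 := Transfer.commute_of_hasNormalPComplement hnpc
      (Q := (P : Subgroup X).subgroupOf ((P : Subgroup X) ⊔ zpowers x))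
      (P.2.of_equiv (subgroupOfEquivOfLe le_sup_left).symm) hcop
    exact fun v hv => congrArg Subtype.val (mem_centralizer_iff.mp h1 ⟨v, mem_sup_left hv⟩ hv)
  have hysup : (P : Subgroup X) ⊔ zpowers y = ⊤ := by
    by_contra hne
    obtain ⟨i, hi⟩ := IsPGroup.iff_orderOf.mp Q.2 ⟨y, hyQ⟩
    rw [Subgroup.orderOf_mk] at hi
    exact hy (hcent y ⟨i, hi⟩ hne)
  have hyo : orderOf y = q ^ r := by
    have hd : orderOf y ∣ q ^ r := hQc ▸ Subgroup.orderOf_dvd_natCard _ hyQ
    refine Nat.dvd_antisymm hd ?_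
    have h1 := Cores.card_sup_dvd (zpowers y) (P : Subgroup X)
    rw [sup_comm, hysup, Subgroup.card_top, hXc, hPc, Nat.card_zpowers, mul_comm (orderOf y)] at h1
    exact Nat.dvd_of_mul_dvd_mul_left (pow_pos (Fact.out : p.Prime).pos t) h1
  let conjP : X →* MulAut (P : Subgroup X) := MulAut.conjNormal
  set σ1 := conjP y
  have hS1 : SAct q σ1 := by
    refine ⟨?_, fun e => hy fun v hv => ?_, fun S hS hinv v hv => ?_⟩
    · rw [← map_pow]
      refine MulEquiv.ext fun v => Subtype.ext ?_
      show y ^ q * (v : X) * (y ^ q)⁻¹ = v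
      have hyq : y ^ q ∈ centralizer ((P : Subgroup X) : Set X) := by
        refine hcent _ ?_ fun e => ?_
        · obtain ⟨i, -, hi⟩ := (Nat.dvd_prime_pow (Fact.out : q.Prime)).mp (hyo ▸ orderOf_pow_dvd (x := y) q)
          exact ⟨i, hi⟩
        · have h1 := Cores.card_sup_dvd (zpowers (y ^ q)) (P : Subgroup X)
          rw [sup_comm, e, Subgroup.card_top, hXc, hPc, Nat.card_zpowers, mul_comm (orderOf (y ^ q))] at h1
          have h2 := Nat.dvd_of_mul_dvd_mul_left (pow_pos (Fact.out : p.Prime).pos t) h1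
          have hr : r ≠ 0 := by
            rintro rfl
            rw [pow_zero, orderOf_eq_one_iff] at hyo
            exact hy (hyo ▸ one_mem _)
          rw [orderOf_pow' y (Fact.out : q.Prime).ne_zero, hyo, Nat.gcd_eq_right (dvd_pow_self q hr)] at h2
          have h3 := Nat.le_of_dvd (Nat.div_pos (Nat.le_self_pow hr q) (Fact.out : q.Prime).pos) h2
          exact (Nat.div_lt_self (pow_pos (Fact.out : q.Prime).pos r) (Fact.out : q.Prime).one_lt).not_ge h3
      rw [← mem_centralizer_iff.mp hyq v v.2, mul_inv_cancel_right]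
    · have := congrArg Subtype.val (DFunLike.congr_fun e (⟨v, hv⟩ : (P : Subgroup X)))
      change y * v * y⁻¹ = v at this
      exact (mul_inv_eq_iff_eq_mul.mp this).symm
    · set S' := S.map (P : Subgroup X).subtype
      have hnorm : zpowers y ≤ normalizer (S' : Set X) := by
        rw [zpowers_le, mem_normalizer_iff]
        have hfwd : S'.map (MulAut.conj y).toMonoidHom ≤ S' := by
          rintro _ ⟨_, ⟨u, hu, rfl⟩, rfl⟩
          exact ⟨σ1 u, hinv u hu, rfl⟩
        have heq : S'.map (MulAut.conj y).toMonoidHom = S' :=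
          Subgroup.eq_of_le_of_card_ge hfwd (Subgroup.card_map_of_injective (MulAut.conj y).injective).ge
        intro x
        constructor
        · intro hx; exact hfwd ⟨x, hx, rfl⟩
        · intro hx
          rw [← heq] at hx
          obtain ⟨z, hz, hzx⟩ := hx
          rwa [(MulAut.conj y).injective hzx] at hz
      have hne : S' ⊔ zpowers y ≠ ⊤ := by
        intro e
        haveI : S'.Normal := normalizer_eq_top_iff.mp (top_le_iff.mp (e.ge.trans (sup_le le_normalizer hnorm)))
        have h1 := Cores.card_sup_dvd (zpowers y) S'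
        rw [sup_comm, e, Subgroup.card_top, hXc, Nat.card_zpowers, hyo, mul_comm (q ^ r) (Nat.card S')] at h1
        have h2 := Nat.dvd_of_mul_dvd_mul_right (pow_pos (Fact.out : q.Prime).pos r) h1
        rw [← hPc, Subgroup.card_map_of_injective (P : Subgroup X).subtype_injective] at h2
        exact hS (Subgroup.eq_top_of_le_card _ (Nat.le_of_dvd Nat.card_pos h2))
      haveI : (S'.subgroupOf (S' ⊔ zpowers y)).Normal := Subgroup.normal_subgroupOf_of_le_normalizer
        (sup_le le_normalizer hnorm)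
      have hcop : Nat.Coprime (orderOf (⟨y, mem_sup_right (mem_zpowers y)⟩ : ↥(S' ⊔ zpowers y))) p := by
        rw [Subgroup.orderOf_mk, hyo]; exact ((Nat.coprime_primes Fact.out Fact.out).mpr hpq.symm).pow_left r
      have h1 := Transfer.commute_of_hasNormalPComplement (hX2 _ hne) (Q := S'.subgroupOf (S' ⊔ zpowers y))
        ((P.2.to_le (map_subtype_le S)).of_equiv (subgroupOfEquivOfLe le_sup_left).symm) hcop
      refine Subtype.ext ?_
      show y * (v : X) * y⁻¹ = v
      have h2 : (v : X) * y = y * v :=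
        congrArg Subtype.val (mem_centralizer_iff.mp h1 ⟨v, mem_sup_left ⟨v, hv, rfl⟩⟩ ⟨v, hv, rfl⟩)
      rw [← h2, mul_inv_cancel_right]
  obtain ⟨j, i, hji, π', hπ's, hπ'σ, hπ'ker⟩ := exists_proj R hpq P.2 hS1
  have hS2 : SAct q (σ1 ^ j) := hS1.pow_pow i j hji
  set σ2 := σ1 ^ j
  -- the linked subgroup
  let D : Subgroup (N × (P : Subgroup X)) := MonoidHom.eqLocus (π.comp (MonoidHom.fst _ _)) (π'.comp (MonoidHom.snd _ _))
  let τ : MulAut (N × (P : Subgroup X)) := MulEquiv.prodCongr σ σ2
  let Fam : Set (Subgroup (N × (P : Subgroup X))) :=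
    {W | W ≤ D ∧ (∀ x ∈ W, τ x ∈ W) ∧ W.map (MonoidHom.fst _ _) = ⊤}
  have hDF : D ∈ Fam := by
    refine ⟨le_rfl, fun x hx => ?_, ?_⟩
    · apply Multiplicative.toAdd.injective
      show Multiplicative.toAdd (π (σ x.1)) = Multiplicative.toAdd (π' (σ2 x.2))
      rw [hπσ, hπ'σ, show π x.1 = π' x.2 from hx]
    · refine (Subgroup.eq_top_iff' _).mpr fun u => ?_
      obtain ⟨v, hv⟩ := hπ's (π u)
      exact ⟨(u, v), hv.symm, rfl⟩
  obtain ⟨W, hW, hWmin⟩ := Set.Finite.exists_minimal (Set.toFinite Fam) ⟨D, hDF⟩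
  obtain ⟨hWD, hWinv, hWfst⟩ := hW
  have hWτ : W.map τ.toMonoidHom = W := Subgroup.eq_of_le_of_card_ge
    (by rintro _ ⟨x, hx, rfl⟩; exact hWinv x hx) (Subgroup.card_map_of_injective τ.injective).ge
  let σW : MulAut W := (τ.subgroupMap W).trans (MulEquiv.subgroupCongr hWτ)
  have hσW : ∀ x : W, ((σW x : W) : N × (P : Subgroup X)) = τ x := fun x => rfl
  have hσWn : ∀ (n : ℕ) (x : W), (((σW ^ n) x : W) : N × (P : Subgroup X)) = ((σ ^ n) x.1.1, (σ2 ^ n) x.1.2) := by
    intro n
    induction n with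
    | zero => intro x; rfl
    | succ n ih => intro x; rw [pow_succ', MulAut.mul_apply, hσW, ih, pow_succ' σ, pow_succ' σ2]; rfl
  let πW : W →* Multiplicative F := π.comp ((MonoidHom.fst _ _).comp W.subtype)
  have hπWσ : ∀ x, Multiplicative.toAdd (πW (σW x)) = R.ζ * Multiplicative.toAdd (πW x) := fun x => hπσ _
  have hπWker : ∀ x, πW x = 1 → σW x = x := fun x hx => Subtype.ext (Prod.ext (hker _ hx)
    (iter_fix (hπ'ker _ ((hWD x.2 : π x.1.1 = π' x.1.2).symm.trans hx)) j))
  have hsurjW : Function.Surjective πW := fun z => by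
    obtain ⟨u, hu⟩ := hπs z
    obtain ⟨x, hx, hxu⟩ : u ∈ W.map (MonoidHom.fst _ _) := hWfst ▸ mem_top u
    exact ⟨⟨x, hx⟩, by rw [← hu, ← hxu]; rfl⟩
  have hfixπ : ∀ u, σ u = u → π u = 1 := fun u hu => by
    have h1 := hπσ u
    rw [hu] at h1
    by_contra hne
    refine R.ne (mul_right_cancel₀ (fun e => hne (Multiplicative.toAdd.injective e)) ?_)
    rw [one_mul]; exact h1.symm
  have hSW : SAct q σW := by
    refine ⟨MulEquiv.ext fun x => Subtype.ext ?_, fun e => R.ne ?_, fun S hS hinv x hx => ?_⟩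
    · rw [hσWn, h.pow, hS2.pow]; rfl
    · obtain ⟨x, hx⟩ := hsurjW (Multiplicative.ofAdd 1)
      have h1 := hπWσ x
      rw [e, MulAut.one_apply, hx, toAdd_ofAdd, mul_one] at h1
      exact h1.symm
    · set S' := S.map W.subtype
      have hS'F : S'.map (MonoidHom.fst _ _) ≠ ⊤ := by
        intro e
        have hm : S' ∈ Fam := ⟨(map_subtype_le S).trans hWD, by
          rintro _ ⟨z, hz, rfl⟩; exact ⟨σW z, hinv z hz, rfl⟩, e⟩
        have hle := hWmin hm (map_subtype_le S)
        refine hS ((Subgroup.eq_top_iff' S).mpr fun z => ?_)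
        obtain ⟨w, hw, hwz⟩ := hle z.2
        rwa [Subtype.ext hwz] at hw
      have h1 := h.fix _ hS'F (by
        rintro _ ⟨_, ⟨z, hz, rfl⟩, rfl⟩
        exact ⟨(σW z : N × (P : Subgroup X)), ⟨σW z, hinv z hz, rfl⟩, rfl⟩) x.1.1 ⟨x.1, ⟨x, hx, rfl⟩, rfl⟩
      exact hπWker x (hfixπ _ h1)
  have hWp : IsPGroup p W := fun x => by
    obtain ⟨k1, h1⟩ := hN x.1.1
    obtain ⟨k2, h2⟩ := P.2 x.1.2
    refine ⟨k1 + k2, Subtype.ext (Prod.ext ?_ ?_)⟩
    · show x.1.1 ^ p ^ (k1 + k2) = 1
      rw [pow_add, pow_mul, h1, one_pow]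
    · show x.1.2 ^ p ^ (k1 + k2) = 1
      rw [pow_add, mul_comm, pow_mul, h2, one_pow]
  let f1 : W →* N := (MonoidHom.fst _ _).comp W.subtype
  have hf1s : Function.Surjective f1 := fun u => by
    obtain ⟨x, hx, hxu⟩ : u ∈ W.map (MonoidHom.fst _ _) := hWfst ▸ mem_top u
    exact ⟨⟨x, hx⟩, hxu⟩
  have hf1 : Function.Bijective f1 :=
    hf1s.bijective_of_nat_card_le (hNc ▸ card_le_bound R ha hpq hWp hSW πW hsurjW hπWσ hπWker)
  let E : W ≃* N := MulEquiv.ofBijective f1 hf1
  let ψ : N →* (P : Subgroup X) := ((MonoidHom.snd _ _).comp W.subtype).comp E.symm.toMonoidHom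
  have hπψ : ∀ u, π' (ψ u) = π u := fun u => by
    have h1 : π (E.symm u : W).1.1 = π' (E.symm u : W).1.2 := hWD (E.symm u).2
    have h2 : (E.symm u : W).1.1 = u := E.apply_symm_apply u
    rw [h2] at h1
    exact h1.symm
  have hψσ : ∀ u, ψ (σ u) = σ2 (ψ u) := fun u => by
    have : E.symm (σ u) = σW (E.symm u) := by
      apply E.injective
      rw [E.apply_symm_apply]
      show σ u = σ (E.symm u : W).1.1
      rw [show (E.symm u : W).1.1 = u from E.apply_symm_apply u]
    show (E.symm (σ u) : W).1.2 = σ2 (E.symm u : W).1.2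
    rw [this]; rfl
  have hψs : Function.Surjective ψ := by
    rw [← MonoidHom.range_eq_top]
    by_contra hne
    obtain ⟨u, hu⟩ := hπs (Multiplicative.ofAdd 1)
    have h1 := hS2.fix _ hne (by rintro _ ⟨v, rfl⟩; exact ⟨σ v, hψσ v⟩) (ψ u) ⟨u, rfl⟩
    have h2 := hπ'σ (ψ u)
    rw [h1, hπψ, hu, toAdd_ofAdd, mul_one] at h2
    exact R.ne h2.symm
  -- the homomorphism
  set y2 := y ^ j
  have hy2 : conjP y2 = σ2 := map_pow conjP y j
  have hjq : ¬ q ∣ j := fun hd => by
    obtain ⟨m, rfl⟩ := hd
    exact hS2.ne (by show σ1 ^ (q * m) = 1; rw [pow_mul, hS1.pow, one_pow])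
  have hy2o : orderOf y2 = q ^ r := by
    rw [Nat.Coprime.orderOf_pow (by rw [hyo]; exact ((Fact.out : q.Prime).coprime_iff_not_dvd.mpr hjq).pow_left r), hyo]
  let fH : H →* X := monoidHomOfForallMemZpowers (g := g) (fun x => by
      obtain ⟨k, rfl⟩ := exists_pow_of_gen hg hH x; exact npow_mem_zpowers g k) (g' := y2) (by rw [hy2o, hg])
  have hfHg : fH g = y2 := monoidHomOfForallMemZpowers_apply_gen _ _
  have hfH : ∀ k : ℕ, fH (g ^ k) = y2 ^ k := fun k => by rw [map_pow, hfHg]
  let φ : SemidirectProduct N H act →* X := SemidirectProduct.lift ((P : Subgroup X).subtype.comp ψ) fH (fun x => by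
    refine MonoidHom.ext fun u => ?_
    obtain ⟨k, rfl⟩ := exists_pow_of_gen hg hH x
    show ((ψ (act (g ^ k) u) : (P : Subgroup X)) : X) = fH (g ^ k) * (ψ u : X) * (fH (g ^ k))⁻¹
    rw [hfH, map_pow, hact]
    have : ∀ k : ℕ, ψ ((σ ^ k) u) = (σ2 ^ k) (ψ u) := by
      intro k
      induction k with
      | zero => rfl
      | succ k ih => rw [pow_succ', MulAut.mul_apply, hψσ, ih, pow_succ', MulAut.mul_apply]
    rw [this, ← hy2, ← map_pow]
    rfl)
  refine ⟨φ, ?_, ?_⟩
  · rw [← MonoidHom.range_eq_top, eq_top_iff, ← hsupeq (zpowers y2) (by rw [Nat.card_zpowers, hy2o])]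
    refine sup_le (fun v hv => ?_) ?_
    · obtain ⟨u, hu⟩ := hψs ⟨v, hv⟩
      exact ⟨SemidirectProduct.inl u, by rw [SemidirectProduct.lift_inl]; exact congrArg Subtype.val hu⟩
    · rw [zpowers_le]
      exact ⟨SemidirectProduct.inr g, by rw [SemidirectProduct.lift_inr, hfHg]⟩
  · intro z hz
    obtain ⟨k, hk⟩ := exists_pow_of_gen hg hH z.right
    rw [← SemidirectProduct.inl_left_mul_inr_right z, MonoidHom.mem_ker, map_mul, SemidirectProduct.lift_inl,
      SemidirectProduct.lift_inr, hk, hfH, mul_eq_one_iff_eq_inv] at hz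
    have hmem : y2 ^ k ∈ (P : Subgroup X) := by
      have := (ψ z.left).2
      change ((ψ z.left : (P : Subgroup X)) : X) = _ at hz
      rw [hz] at this
      exact inv_mem_iff.mp this
    have hk1 : y2 ^ k = 1 := by
      obtain ⟨m, hm⟩ := IsPGroup.iff_orderOf.mp P.2 ⟨_, hmem⟩
      rw [Subgroup.orderOf_mk] at hm
      refine orderOf_eq_one_iff.mp (Nat.eq_one_of_dvd_coprimes
        (Nat.Coprime.pow m r ((Nat.coprime_primes Fact.out Fact.out).mpr hpq)) hm.dvd ?_)
      exact hy2o ▸ orderOf_pow_dvd k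
    have hright : z.right = 1 := by
      rw [hk]
      exact orderOf_dvd_iff_pow_eq_one.mp (hg ▸ hy2o ▸ orderOf_dvd_of_pow_eq_one hk1)
    have hψ : ψ z.left = 1 := Subtype.ext (by
      change ((ψ z.left : (P : Subgroup X)) : X) = _ at hz
      rw [hz, hk1, inv_one]; rfl)
    have hfix : σ z.left = z.left := hker _ (by rw [← hπψ, hψ, map_one])
    have hzc := mem_center_iff.mp (h.fixed_le_center hN hpq (mem_fixedSub.mpr hfix))
    refine mem_center_iff.mpr fun x => SemidirectProduct.ext ?_ ?_
    · rw [SemidirectProduct.mul_left, SemidirectProduct.mul_left, hright, map_one, MulAut.one_apply]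
      obtain ⟨i', hi'⟩ := exists_pow_of_gen hg hH x.right
      rw [hi', map_pow, hact, iter_fix hfix, hzc]
    · rw [SemidirectProduct.mul_right, SemidirectProduct.mul_right, hright, one_mul, mul_one]

end Cfsg.Agent.Lib.MaxSchmidt
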