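import Cfsg.Agent.Lib.MaxSchmidt.Action
import Cfsg.Agent.Lib.MaxSchmidt.Field

/-!
# The largest group with such an action
-/

set_option autoImplicit false
set_option maxHeartbeats 400000

namespace Cfsg.Agent.Lib.MaxSchmidt

open scoped commutatorElement
open Polynomial

/-- The central extension of `F` by `K` defined by a biadditive cocycle. -/
@[ext]
structure Heis {F : Type*} [AddCommGroup F] {K : AddSubgroup F} (β : F →+ F →+ K) where
  x : F
  z : K

namespace Heis

variable {F : Type*} [AddCommGroup F] {K : AddSubgroup F} {β : F →+ F →+ K}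

instance : Group (Heis β) where
  mul u v := ⟨u.x + v.x, u.z + v.z + β u.x v.x⟩
  one := ⟨0, 0⟩
  inv u := ⟨-u.x, -u.z + β u.x u.x⟩
  mul_assoc u v w := by
    refine Heis.ext (add_assoc _ _ _) ?_
    show u.z + v.z + β u.x v.x + w.z + β (u.x + v.x) w.x = u.z + (v.z + w.z + β v.x w.x) + β u.x (v.x + w.x)
    rw [map_add, map_add, AddMonoidHom.add_apply]; abel
  one_mul u := by
    refine Heis.ext (zero_add _) ?_
    show 0 + u.z + β 0 u.x = u.z
    rw [map_zero, AddMonoidHom.zero_apply, add_zero, zero_add]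
  mul_one u := by
    refine Heis.ext (add_zero _) ?_
    show u.z + 0 + β u.x 0 = u.z
    rw [map_zero, add_zero, add_zero]
  inv_mul_cancel u := by
    refine Heis.ext (neg_add_cancel _) ?_
    show -u.z + β u.x u.x + u.z + β (-u.x) u.x = 0
    rw [map_neg, AddMonoidHom.neg_apply]; abel

theorem mul_x (u v : Heis β) : (u * v).x = u.x + v.x := rfl
theorem mul_z (u v : Heis β) : (u * v).z = u.z + v.z + β u.x v.x := rfl
theorem one_x : (1 : Heis β).x = 0 := rfl
theorem one_z : (1 : Heis β).z = 0 := rfl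

/-- The projection. -/
def proj (β : F →+ F →+ K) : Heis β →* Multiplicative F where
  toFun u := Multiplicative.ofAdd u.x
  map_one' := rfl
  map_mul' _ _ := rfl

/-- The coordinates. -/
def equivProd (β : F →+ F →+ K) : Heis β ≃ F × K where
  toFun u := (u.x, u.z)
  invFun v := ⟨v.1, v.2⟩
  left_inv _ := rfl
  right_inv _ := rfl

end Heis

variable {p q a : ℕ} [Fact p.Prime] [Fact q.Prime] {F : Type*} [Field F] [Algebra (ZMod p) F]

/-- The automorphism induced by the multiplication by `ζ`. -/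
def Heis.scale (R : Root p q a F) {K : AddSubgroup F} (β : F →+ F →+ K)
    (hinv : ∀ x y, β (R.ζ * x) (R.ζ * y) = β x y) : MulAut (Heis β) where
  toFun u := ⟨R.ζ * u.x, u.z⟩
  invFun u := ⟨R.ζ⁻¹ * u.x, u.z⟩
  left_inv u := Heis.ext (by show R.ζ⁻¹ * (R.ζ * u.x) = u.x; rw [← mul_assoc, inv_mul_cancel₀ R.ζ_ne_zero, one_mul]) rfl
  right_inv u := Heis.ext (by show R.ζ * (R.ζ⁻¹ * u.x) = u.x; rw [← mul_assoc, mul_inv_cancel₀ R.ζ_ne_zero, one_mul]) rfl
  map_mul' u v := Heis.ext (mul_add _ _ _) (by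
    show u.z + v.z + β u.x v.x = u.z + v.z + β (R.ζ * u.x) (R.ζ * v.x)
    rw [hinv])

theorem Heis.scale_pow (R : Root p q a F) {K : AddSubgroup F} (β : F →+ F →+ K)
    (hinv : ∀ x y, β (R.ζ * x) (R.ζ * y) = β x y) (n : ℕ) (u : Heis β) :
    ((Heis.scale R β hinv) ^ n) u = ⟨R.ζ ^ n * u.x, u.z⟩ := by
  induction n with
  | zero => simp
  | succ n ih =>
    rw [pow_succ', MulAut.mul_apply, ih]
    exact Heis.ext (by show R.ζ * (R.ζ ^ n * u.x) = _; rw [← mul_assoc, pow_succ']) rfl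

theorem Heis.sAct (R : Root p q a F) {K : AddSubgroup F} (β : F →+ F →+ K)
    (hinv : ∀ x y, β (R.ζ * x) (R.ζ * y) = β x y) (hK : ∀ z : K, ∃ x y, β x y - β y x = z) :
    SAct q (Heis.scale R β hinv) := by
  refine ⟨MulEquiv.ext fun u => ?_, fun e => ?_, fun S hS hSinv => ?_⟩
  · rw [Heis.scale_pow, R.pow, one_mul]; rfl
  · have := congrArg Heis.x (DFunLike.congr_fun e (⟨1, 0⟩ : Heis β))
    change R.ζ * 1 = 1 at this
    exact R.ne (by rwa [mul_one] at this)
  · intro u hu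
    let P0 : AddSubgroup F :=
      { carrier := {x | ∃ z, (⟨x, z⟩ : Heis β) ∈ S}
        zero_mem' := ⟨0, S.one_mem⟩
        add_mem' := fun {x y} ⟨z, hz⟩ ⟨w, hw⟩ => ⟨_, S.mul_mem hz hw⟩
        neg_mem' := fun {x} ⟨z, hz⟩ => ⟨_, S.inv_mem hz⟩ }
    by_cases h0 : u.x = 0
    · exact Heis.ext (by show R.ζ * u.x = u.x; rw [h0, mul_zero]) rfl
    exfalso
    have hP : P0 = ⊤ := R.addSubgroup_eq_top P0 (fun x ⟨z, hz⟩ => ⟨z, hSinv _ hz⟩) (s := u.x) ⟨u.z, hu⟩ h0
    have hcen : ∀ z : K, (⟨0, z⟩ : Heis β) ∈ S := by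
      intro z
      obtain ⟨x, y, rfl⟩ := hK z
      obtain ⟨z1, h1⟩ : x ∈ P0 := hP ▸ AddSubgroup.mem_top _
      obtain ⟨z2, h2⟩ : y ∈ P0 := hP ▸ AddSubgroup.mem_top _
      have h3 := S.mul_mem (S.mul_mem h1 h2) (S.inv_mem (S.mul_mem h2 h1))
      have e : (⟨x, z1⟩ : Heis β) * ⟨y, z2⟩ = ⟨0, β x y - β y x⟩ * (⟨y, z2⟩ * ⟨x, z1⟩) := by
        refine Heis.ext (by simp only [Heis.mul_x]; abel) ?_
        simp only [Heis.mul_z, Heis.mul_x, map_zero, AddMonoidHom.zero_apply]
        abel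
      rwa [e, mul_inv_cancel_right] at h3
    refine hS ((Subgroup.eq_top_iff' S).mpr fun v => ?_)
    obtain ⟨z, hz⟩ : v.x ∈ P0 := hP ▸ AddSubgroup.mem_top _
    have e : v = ⟨0, v.z - z⟩ * ⟨v.x, z⟩ := by
      refine Heis.ext (zero_add _).symm ?_
      simp only [Heis.mul_z, map_zero, AddMonoidHom.zero_apply]
      abel
    rw [e]
    exact S.mul_mem (hcen _) hz

theorem card_roots_le {F : Type*} [Field F] [Finite F] {n : ℕ} (hn : 1 < n) (c : F) :
    Nat.card {z : F // z ^ n = c * z} ≤ n := by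
  classical
  have hne : (X ^ n - C c * X : F[X]) ≠ 0 := fun h => by
    have := congrArg (coeff · n) h
    simp [coeff_X, hn.ne, hn.ne'] at this
  calc Nat.card {z : F // z ^ n = c * z} ≤ Nat.card (X ^ n - C c * X : F[X]).roots.toFinset := by
        refine Nat.card_le_card_of_injective (fun z => ⟨z.1, ?_⟩) (fun x y h => Subtype.ext (congrArg (fun w : _ => w.1) h))
        rw [Multiset.mem_toFinset, mem_roots hne, IsRoot, eval_sub, eval_pow, eval_X, eval_mul, eval_C, eval_X, z.2, sub_self]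
    _ ≤ n := by
        rw [Nat.card_eq_fintype_card, Fintype.card_coe]
        refine (Multiset.toFinset_card_le _).trans ((card_roots' _).trans ?_)
        refine (natDegree_sub_le _ _).trans (max_le (natDegree_X_pow _).le ?_)
        exact ((natDegree_C_mul_le c X).trans natDegree_X_le).trans hn.le

/-- A suitable cocycle. -/
theorem exists_cocycle (R : Root p q a F) (ha : a = orderOf (p : ZMod q)) (hpq : p ≠ q) :
    ∃ (K : AddSubgroup F) (β : F →+ F →+ K) (_ : ∀ x y, β (R.ζ * x) (R.ζ * y) = β x y),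
      (∀ z : K, ∃ x y, β x y - β y x = z) ∧
      Nat.card K = p ^ (if a % 2 = 1 then 0 else a / 2) := by
  classical
  split_ifs with hodd
  · refine ⟨⊥, 0, fun _ _ => rfl, fun z => ⟨0, 0, ?_⟩, by rw [pow_zero, AddSubgroup.card_bot]⟩
    exact Subsingleton.elim _ _
  haveI : Finite F := Nat.finite_of_card_ne_zero (by rw [R.card]; exact pow_ne_zero _ (Fact.out : p.Prime).ne_zero)
  have ha0 : 0 < a := ha ▸ orderOf_cast_pos hpq
  set b := a / 2 with hbdef
  have hab : a = b + b := by omega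
  have hn : 1 < p ^ b := Nat.one_lt_pow (by omega) (Fact.out : p.Prime).one_lt
  let τ : F →ₐ[ZMod p] F := (FiniteField.frobeniusAlgHom (ZMod p) F) ^ b
  have hτ : ∀ z, τ z = z ^ p ^ b := fun z => by
    show ((FiniteField.frobeniusAlgHom (ZMod p) F) ^ b) z = _
    rw [AlgHom.coe_pow, FiniteField.coe_frobeniusAlgHom, pow_iterate, ZMod.card]
  have hττ : ∀ z, τ (τ z) = z := fun z => by
    haveI := Fintype.ofFinite F
    rw [hτ, hτ, ← pow_mul, ← pow_add, ← hab, ← R.card, Nat.card_eq_fintype_card, FiniteField.pow_card]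
  have hτζ : τ R.ζ = R.ζ⁻¹ := by
    have h1 : ((p : ZMod q) ^ b) * (p : ZMod q) ^ b = 1 := by
      rw [← pow_add, ← hab, ha, pow_orderOf_eq_one]
    have h2 : (p : ZMod q) ^ b = -1 := (mul_self_eq_one_iff.mp h1).resolve_left fun h2 => by
      have := Nat.le_of_dvd (by omega) (orderOf_dvd_of_pow_eq_one h2)
      omega
    rw [hτ, eq_comm]
    refine inv_eq_of_mul_eq_one_right ?_
    rw [← pow_succ', ← orderOf_dvd_iff_pow_eq_one, orderOf_eq_prime R.pow R.ne, ← ZMod.natCast_eq_zero_iff,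
      Nat.cast_add, Nat.cast_pow, h2, Nat.cast_one, neg_add_cancel]
  let K : AddSubgroup F := (τ.toRingHom.toAddMonoidHom).eqLocus (AddMonoidHom.id F)
  have hmemK : ∀ z, z ∈ K ↔ τ z = z := fun z => Iff.rfl
  have hKle : Nat.card K ≤ p ^ b := by
    refine le_trans ?_ (card_roots_le hn (1 : F))
    exact Nat.card_le_card_of_injective (fun z => ⟨z.1, by rw [← hτ, (hmemK _).mp z.2, one_mul]⟩)
      (fun x y h => Subtype.ext (congrArg (fun w : _ => w.1) h))
  have hsplit : ∀ f : F →+ F, p ^ a = Nat.card f.ker * Nat.card f.range := fun f => by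
    rw [← R.card, ← f.ker.card_mul_index, AddSubgroup.index_ker]
  let Tr : F →+ F := AddMonoidHom.id F + τ.toRingHom.toAddMonoidHom
  have hTrK : Tr.range ≤ K := by
    rintro _ ⟨z, rfl⟩
    rw [hmemK]
    show τ (z + τ z) = z + τ z
    rw [map_add, hττ, add_comm]
  have hKge : p ^ b ≤ Nat.card K := by
    have h1 : Nat.card Tr.ker ≤ p ^ b := by
      refine le_trans ?_ (card_roots_le hn (-1 : F))
      refine Nat.card_le_card_of_injective (fun z => ⟨z.1, ?_⟩) (fun x y h => Subtype.ext (congrArg (fun w : _ => w.1) h))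
      rw [← hτ, neg_one_mul]
      exact eq_neg_of_add_eq_zero_right (AddMonoidHom.mem_ker.mp z.2)
    refine le_trans ?_ (Nat.card_le_card_of_injective _ (AddSubgroup.inclusion_injective hTrK))
    refine Nat.le_of_mul_le_mul_left ?_ (pow_pos (Fact.out : p.Prime).pos b)
    calc p ^ b * p ^ b = Nat.card Tr.ker * Nat.card Tr.range := by rw [← pow_add, ← hab, hsplit Tr]
      _ ≤ p ^ b * Nat.card Tr.range := Nat.mul_le_mul_right _ h1
  have hKc : Nat.card K = p ^ b := le_antisymm hKle hKge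
  obtain ⟨θ, hθ⟩ : ∃ θ : F, θ ∉ K := by
    by_contra! hall
    have e : K = ⊤ := eq_top_iff.mpr fun z _ => hall z
    rw [e, Nat.card_congr AddSubgroup.topEquiv.toEquiv, R.card] at hKc
    have := Nat.pow_right_injective (Fact.out : p.Prime).two_le hKc
    omega
  let β : F →+ F →+ K := AddMonoidHom.mk' (fun x => AddMonoidHom.mk'
      (fun y => (⟨Tr (θ * x * τ y), hTrK ⟨_, rfl⟩⟩ : K)) (fun y y' => Subtype.ext (by
        show Tr _ = Tr _ + Tr _
        rw [← map_add, map_add τ, mul_add]))) (fun x x' => AddMonoidHom.ext fun y => Subtype.ext (by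
        show Tr _ = Tr _ + Tr _
        rw [← map_add, mul_add, add_mul]))
  refine ⟨K, β, fun x y => Subtype.ext ?_, fun z => ?_, hKc⟩
  · show Tr (θ * (R.ζ * x) * τ (R.ζ * y)) = Tr (θ * x * τ y)
    have h1 : R.ζ * R.ζ⁻¹ = 1 := mul_inv_cancel₀ R.ζ_ne_zero
    rw [map_mul τ, hτζ, show θ * (R.ζ * x) * (R.ζ⁻¹ * τ y) = (R.ζ * R.ζ⁻¹) * (θ * x * τ y) by ring, h1, one_mul]
  · let D : F →+ F := τ.toRingHom.toAddMonoidHom - AddMonoidHom.id F
    let M : F →+ F := (AddMonoidHom.mulLeft (θ - τ θ)).comp D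
    have hne : θ - τ θ ≠ 0 := fun e => hθ ((hmemK θ).mpr (sub_eq_zero.mp e).symm)
    have hβ : ∀ y, ((β 1 y - β y 1 : K) : F) = M y := fun y => by
      show Tr (θ * 1 * τ y) - Tr (θ * y * τ 1) = (θ - τ θ) * (τ y - y)
      show θ * 1 * τ y + τ (θ * 1 * τ y) - (θ * y * τ 1 + τ (θ * y * τ 1)) = _
      simp only [map_mul, map_one, mul_one, hττ]
      ring
    have hMK : M.range ≤ K := by
      rintro _ ⟨y, rfl⟩
      rw [← hβ]; exact (β 1 y - β y 1 : K).2
    have hker : Nat.card M.ker ≤ p ^ b := by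
      refine le_trans (Nat.card_le_card_of_injective (fun z => (⟨z.1, ?_⟩ : K)) (fun x y h => Subtype.ext (congrArg (fun w : K => w.1) h))) hKle
      have h1 : (θ - τ θ) * (τ z.1 - z.1) = 0 := AddMonoidHom.mem_ker.mp z.2
      exact (hmemK _).mpr (sub_eq_zero.mp ((mul_eq_zero.mp h1).resolve_left hne))
    have heq : M.range = K := by
      refine AddSubgroup.eq_of_le_of_card_ge hMK ?_
      rw [hKc]
      refine Nat.le_of_mul_le_mul_left ?_ (pow_pos (Fact.out : p.Prime).pos b)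
      calc p ^ b * p ^ b = Nat.card M.ker * Nat.card M.range := by rw [← pow_add, ← hab, hsplit M]
        _ ≤ p ^ b * Nat.card M.range := Nat.mul_le_mul_right _ hker
    obtain ⟨y, hy⟩ : (z : F) ∈ M.range := by rw [heq]; exact z.2
    exact ⟨1, y, Subtype.ext ((hβ y).trans hy)⟩

end Cfsg.Agent.Lib.MaxSchmidt
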